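import Cfsg.Agent.Pu.C2
import Cfsg.Agent.As.Fld

/-! S5175, slice CO: the coordinates. -/

set_option autoImplicit false

universe u

namespace Cfsg.Agent.Pu

open Subgroup Cfsg Cfsg.Fus Cfsg.FusionSystem Cfsg.Agent.H1 Cfsg.Agent.L Cfsg.Agent.FT
  Cfsg.Agent.Sg Cfsg.Agent.St Equiv
open scoped Pointwise commutatorElement

variable {K : Type} [Field K] [Fintype K]

theorem isotopy {α β γ : K → K} (add : ∀ x y, α (x + y) = α x + α y) (inj : ∀ x, α x = 0 → x = 0)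
    (h : ∀ y x, α (y * x) = β y * γ x) : ∃ (σ : K ≃+* K) (b c : Kˣ),
    (∀ y, β y = b * σ y) ∧ (∀ x, γ x = c * σ x) ∧ ∀ x, α x = b * c * σ x := by
  have h1 : α 1 = β 1 * γ 1 := by simpa using h 1 1
  have h0 : α 1 ≠ 0 := fun e => one_ne_zero (inj 1 e)
  have hb : β 1 ≠ 0 := left_ne_zero_of_mul (h1 ▸ h0)
  have hc : γ 1 ≠ 0 := right_ne_zero_of_mul (h1 ▸ h0)
  have e1 : ∀ y, β y = α y / γ 1 := fun y => by rw [eq_div_iff hc, ← h, mul_one]
  have e2 : ∀ y, γ y = α y / β 1 := fun y => by rw [eq_div_iff hb, mul_comm, ← h, one_mul]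
  let s : K →+* K := ⟨⟨⟨fun x => α x / α 1, div_self h0⟩, fun x y => by
    simp only [h x y]; rw [e1 x, e2 y, h1]; field_simp⟩, by simp [show α 0 = 0 by simpa using add 0 0],
    fun x y => by simp only [add, add_div]⟩
  refine ⟨RingEquiv.ofBijective s (Finite.injective_iff_bijective.1 s.injective), Units.mk0 _ hb,
    Units.mk0 _ hc, fun y => ?_, fun y => ?_, fun y => ?_⟩
  · show β y = β 1 * (α y / α 1)
    rw [e1 y, h1]; field_simp
  · show γ y = γ 1 * (α y / α 1)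
    rw [e2 y, h1]; field_simp
  · show α y = β 1 * γ 1 * (α y / α 1)
    rw [h1]; field_simp

theorem ringAut_comm [CharP K 2] (σ τ : K ≃+* K) (x : K) : σ (τ x) = τ (σ x) := by
  haveI := As.cyc_ringAut K
  exact DFunLike.congr_fun (IsCyclic.commGroup.mul_comm σ τ) x

variable {Ω : Type u} [Group Ω] {S : Subgroup Ω} {F : FusionSystem S}
  {T V₁ V₂ G Λ : Subgroup Ω} {t t₀ g : Ω} {q : ℕ} {ℓ : Set (Subgroup (Hol V₁))}
  {L : Subgroup (Hol V₁)} [CharP K 2]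

namespace Fo

variable (f : Fo F T V₁ V₂ (fixV V₁ L) Λ t K)

omit [Fintype K] in
theorem uq {x x' : K} {d d' : Ω} (hd : d ∈ fixV V₁ L) (hd' : d' ∈ fixV V₁ L)
    (h : f.X x * d = f.X x' * d') : x = x' := by
  have := (f.inj 0 (x' + x) (by
    rw [add_one' f.Y_add, one_mul, f.X_add, eq_mul_inv_of_mul_eq h, ← mul_assoc, ← mul_assoc,
      add_sq' f.X_add, one_mul]
    exact mul_mem hd' (inv_mem hd))).2
  exact (CharTwo.add_eq_zero.1 this).symm

variable (d : Dat2 F T V₁ V₂ t₀ q ℓ L)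
include d

omit [Fintype K] in
theorem memZ {z : Ω} (hz : z ∈ V₁ ⊓ V₂) : ∃ x, ∃ e ∈ fixV V₁ L, z = f.X x * e := by
  obtain ⟨y, x, e, a, rfl⟩ := f.dec z hz.1
  obtain rfl := f.Y0 y ((V₂.mul_mem_cancel_right (f.X_mem x).2).1
    ((V₂.mul_mem_cancel_right (d.toDat.fix_le a).2).1 hz.2))
  exact ⟨x, e, a, by rw [add_one' f.Y_add, one_mul]⟩

include f in
theorem tt [Finite Ω] (c : Cpl S T V₁ G Λ t) (m : Mod F T G) (h4 : 2 < Fintype.card K) :
    t * t = 1 := by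
  obtain ⟨c₀, c1, c2⟩ := exists_ne01 h4
  have c3 : ∀ x : K, c₀ * x = x → x = 0 := fun x h =>
    by_contra fun e => c2 (mul_right_cancel₀ e (h.trans (one_mul _).symm))
  have hT := (d.toDat.chg c.tS (d.nT c.tS) c.tT).tt_mem
  have km := f.k_mem (Units.mk0 c₀ c1)
  have kY := f.kY (Units.mk0 c₀ c1)
  have kX := f.kX (Units.mk0 c₀ c1)
  generalize f.k (Units.mk0 c₀ c1) = k at km kY kX
  simp only [Units.val_mk0, Units.val_inv_eq_inv_val] at kY kX
  have e : k * (t * t) * k⁻¹ = t * t := by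
    have : ⁅t * t, k⁆ ∈ Λ ⊓ T := ⟨by
      rw [← commutatorElement_inv]
      exact Λ.inv_mem (comm_mem_of_norm km.1 (mul_mem c.tn c.tn)),
      comm_mem_of_norm hT (m.nrm (c.le km.1).1)⟩
    rw [inf_eq_bot_of_two (d.two.to_le d.toDat.TS) c.odd, mem_bot,
      commutatorElement_eq_one_iff_mul_comm] at this
    rw [← this, mul_inv_cancel_right]
  have kd : ∀ x ∈ fixV V₁ L, k * x * k⁻¹ = x := fun x hx => by rw [← km.2 x hx, mul_inv_cancel_right]
  have td : t * (t * t) * t⁻¹ = t * t := by group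
  generalize t * t = g at hT e td ⊢
  obtain ⟨u, hu⟩ := f.cm g hT
  obtain ⟨a, a1, a2⟩ := hu 1
  obtain ⟨b, b1, b2⟩ := hu (c₀⁻¹ * 1)
  have h1 : f.X (c₀ * (1 * u)) * a = f.X (c₀⁻¹ * 1 * u) * b := by
    rw [← b2, ← kY, ← e, ← kX, ← kd a a1, ← conjugate_commutatorElement, a2]; group
  have h2 : u = 0 := by
    have h := f.uq a1 b1 h1
    by_contra h0
    have h3 : c₀ * c₀ = 1 := by field_simp at h; rw [← h]; ring
    exact c2 (by rw [← CharTwo.add_eq_zero, ← pow_eq_zero_iff two_ne_zero, CharTwo.add_sq, sq, h3,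
      one_pow, CharTwo.add_self_eq_zero])
  obtain ⟨y, x, z, z1, rfl⟩ := f.dec g (f.cm0 g hT (by
    rw [a2, h2, mul_zero, add_one' f.X_add, one_mul]; exact a1))
  have h3 : f.Y (c₀⁻¹ * y) * f.X (c₀ * x) = f.Y y * f.X x := by
    rw [← mul_left_inj z, ← e, ← kY, ← kX]; nth_rw 1 [← kd z z1]; group
  obtain ⟨h5, h6⟩ := f.inj (y + c₀⁻¹ * y) (c₀ * x + x) (by
    rw [f.Y_add, f.X_add, mul_assoc, ← mul_assoc (f.Y (c₀⁻¹ * y)), h3, mul_assoc, add_sq' f.X_add,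
      mul_one, add_sq' f.Y_add]; exact one_mem _)
  rw [CharTwo.add_eq_zero] at h5 h6
  rw [c3 x h6, c3 y (by nth_rw 1 [h5]; field_simp), add_one' f.X_add, add_one' f.Y_add, one_mul,
    one_mul] at td ⊢
  exact mem_bot.1 (d.dd ▸ ⟨z1, d.conj_fix c.tS c.tT ▸ td ▸ conj_mem_conj t z1⟩)

end Fo

/-- the frame together with the coordinates on `V₂` -/
structure Fu (F : FusionSystem S) (T V₁ V₂ D Λ : Subgroup Ω) (t : Ω) (K : Type) [Field K]
    extends Fo F T V₁ V₂ D Λ t K where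
  U : K → Ω
  φ : K ≃ K
  tt : t * t = 1
  φ1 : φ 1 = 1
  tY : ∀ y, t * Y y * t = U (φ y)
  U_add : ∀ a b, U (a + b) = U a * U b
  U_mem : ∀ a, U a ∈ V₂
  cU : ∀ y u, ∃ d ∈ D, ⁅Y y, U u⁆ = X (y * u) * d

theorem Fo.exists_fu [Finite Ω] (f : Fo F T V₁ V₂ (fixV V₁ L) Λ t K) (d : Dat2 F T V₁ V₂ t₀ q ℓ L)
    (c : Cpl S T V₁ G Λ t) (m : Mod F T G) (h4 : 2 < Fintype.card K) :
    Nonempty (Fu F T V₁ V₂ (fixV V₁ L) Λ t K) := by
  have tt := f.tt d c m h4
  have ti : t⁻¹ = t := inv_eq_of_mul_eq_one_right tt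
  have sw := d.toDat.swap_of c.tS (d.nT c.tS) c.tT
  have tY : ∀ y, t * f.Y y * t ∈ V₂ := fun y => by
    have := conj_mem_conj t (f.Y_mem y); rwa [sw.1, ti] at this
  choose φ hφ using fun y => f.cm _ (d.toDat.le₂ (tY y))
  have tm : ∀ a b, t * f.Y (a + b) * t = t * f.Y a * t * (t * f.Y b * t) := fun a b => by
    rw [f.Y_add]
    calc _ = t * f.Y a * (t * t) * f.Y b * t := by rw [tt]; group
      _ = _ := by group
  have add : ∀ a b, φ (a + b) = φ a + φ b := fun a b => by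
    obtain ⟨x, x1, x2⟩ := hφ a 1
    obtain ⟨y, y1, y2⟩ := hφ b 1
    obtain ⟨z, z1, z2⟩ := hφ (a + b) 1
    rw [tm, comm_mul_quad _ (cent_le_cent1 (tY a) (d.toDat.sq₂.cent
      (d.toDat.comm_mem (f.Y_mem 1) (tY b)).2)), x2, y2, mul_assoc, ← mul_assoc x,
      d.toDat.sq₁.cent (f.X_mem _).1 x (fixV_le _ _ x1), mul_assoc, ← mul_assoc, ← f.X_add] at z2
    simpa using (f.uq (mul_mem x1 y1) z1 z2).symm
  have inj : Function.Injective φ := fun a b e => by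
    obtain ⟨x, x1, x2⟩ := hφ (a + b) 1
    rw [add, e, CharTwo.add_self_eq_zero, mul_zero, add_one' f.X_add, one_mul] at x2
    have := sw.2.ge (f.cm0 _ (d.toDat.le₂ (tY _)) (x2 ▸ x1))
    exact CharTwo.add_eq_zero.1 (f.Y0 _ (conj_mem_conj_iff (g := t).1 (by rwa [ti])))
  let e := Equiv.ofBijective φ (Finite.injective_iff_bijective.1 inj)
  refine ⟨⟨f, fun x => t * f.Y (e.symm x) * t, e, tt, ?_, fun y => by rw [e.symm_apply_apply],
    fun a b => ?_, fun _ => tY _, fun y u => ?_⟩⟩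
  · obtain ⟨x, x1, x2⟩ := hφ 1 1
    obtain ⟨y, y1, y2⟩ := f.one
    rw [ti, x2, one_mul] at y2
    exact f.uq x1 y1 y2
  · rw [← tm]; congr 3
    exact e.injective (by rw [e.apply_symm_apply]; exact ((add _ _).trans (congrArg₂ _
      (e.apply_symm_apply a) (e.apply_symm_apply b))).symm)
  · have := hφ (e.symm u) y
    rwa [show φ (e.symm u) = u from e.apply_symm_apply u] at this

end Cfsg.Agent.Pu
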