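import Cfsg.Agent.Pu.C3

/-! S5175, slice CO: construction of `Crd`. -/

set_option autoImplicit false

universe u

namespace Cfsg.Agent.Pu

open Subgroup Cfsg Cfsg.Fus Cfsg.FusionSystem Cfsg.Agent.H1 Cfsg.Agent.L Cfsg.Agent.FT
  Cfsg.Agent.Sg Cfsg.Agent.St Equiv
open scoped Pointwise commutatorElement

variable {K : Type} [Field K] [Fintype K] [CharP K 2] {Ω : Type u} [Group Ω] [Finite Ω]
  {S : Subgroup Ω} {F : FusionSystem S} {T V₁ V₂ G Λ : Subgroup Ω} {t g l : Ω} {q : ℕ}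
  {ℓ : Set (Subgroup (Hol V₁))} {L : Subgroup (Hol V₁)}

namespace Fu

variable (f : Fu F T V₁ V₂ (fixV V₁ L) Λ t K)

/-- the third root subgroup -/
def W (x : K) : Ω := f.X x * ⁅f.Y 1, f.U x⁆

/-- `l` acts with the parameters `p` -/
def Act (l : Ω) (p : Kˣ × Kˣ × (K ≃+* K)) : Prop := ∀ a,
  l * f.Y a * l⁻¹ = f.Y (p.1 * p.2.2 a) ∧ l * f.U a * l⁻¹ = f.U (p.2.1 * p.2.2 a)

omit [Fintype K] [CharP K 2] [Finite Ω] in
include f in
theorem ti : t⁻¹ = t := inv_eq_of_mul_eq_one_right f.tt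

omit [Fintype K] [CharP K 2] [Finite Ω] in
theorem tU (u : K) : t * f.U u * t = f.Y (f.φ.symm u) := by
  conv_lhs => rw [← f.φ.apply_symm_apply u, ← f.tY]
  calc _ = t * t * f.Y (f.φ.symm u) * (t * t) := by group
    _ = _ := by rw [f.tt]; group

omit [Fintype K] [Finite Ω] in
theorem W_mem (x : K) : f.W x ∈ fixV V₁ L := by
  obtain ⟨e, a, b⟩ := f.cU 1 x
  rwa [W, b, one_mul, ← mul_assoc, add_sq' f.X_add, one_mul]

omit [Fintype K] [Finite Ω] in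
theorem Y_inj {a b : K} (h : f.Y a = f.Y b) : a = b := CharTwo.add_eq_zero.1 (f.inj (a + b) 0 (by
  rw [f.Y_add, h, add_sq' f.Y_add, add_one' f.X_add, one_mul]; exact one_mem _)).1

omit [Fintype K] [Finite Ω] in
theorem U_inj {a b : K} (h : f.U a = f.U b) : a = b :=
  f.φ.symm.injective (f.Y_inj (by rw [← f.tU, h, f.tU]))

variable (d : Dat2 F T V₁ V₂ t q ℓ L) (c : Cpl S T V₁ G Λ t) (m : Mod F T G)
include d

omit [Fintype K] [Finite Ω] in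
theorem W_add (a b : K) : f.W (a + b) = f.W a * f.W b := by
  have h := d.toDat.sq₁.cent (f.X_mem b).1 _ (d.toDat.comm_mem (f.Y_mem 1) (f.U_mem a)).1
  rw [W, W, W, f.X_add, f.U_add, comm_mul_quad _ (cent_le_cent1 (f.U_mem a) (d.toDat.sq₂.cent
    (d.toDat.comm_mem (f.Y_mem 1) (f.U_mem b)).2)), mul_assoc, ← mul_assoc (f.X b), ← h]; group

omit [Fintype K] [CharP K 2] [Finite Ω] in
theorem t_comm (y u : K) : t * ⁅f.Y y, f.U u⁆ * t = ⁅f.Y (f.φ.symm u), f.U (f.φ y)⁆ := by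
  rw [← d.toDat.sq₁.inv (d.toDat.comm_mem (f.Y_mem (f.φ.symm u)) (f.U_mem (f.φ y))).1,
    commutatorElement_inv, ← f.tU, ← f.tY]
  simpa only [f.ti] using conjugate_commutatorElement (f.Y y) (f.U u) t

include c m

omit [Fintype K] [CharP K 2] in
theorem cD [LN.{u}] (hl : l ∈ Λ) {x : Ω} (hx : x ∈ fixV V₁ L) : l * x * l⁻¹ ∈ fixV V₁ L :=
  d.fix_inv (d.isoG₁ m (c.le hl)) hx

omit [Fintype K] [CharP K 2] [Finite Ω] d m in
include f in
theorem tl (hl : l ∈ Λ) : t * l * t ∈ Λ := by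
  have := (mem_normalizer_iff.1 c.tn l).1 hl
  rwa [f.ti] at this

theorem exists_act [LN.{u}] (hl : l ∈ Λ) : ∃ p, f.Act l p ∧
    ∀ x, l * f.X x * l⁻¹ = f.X (p.1 * p.2.1 * p.2.2 x) := by
  choose β hβ using f.nY l hl
  choose α hα using f.nX l hl
  have : ∀ u, ∃ u', l * f.U u * l⁻¹ = f.U u' := fun u => by
    obtain ⟨y, hy⟩ := f.nY _ (f.tl c hl) (f.φ.symm u)
    refine ⟨f.φ y, ?_⟩
    rw [← f.tY, ← hy, ← f.tU, mul_inv_rev, mul_inv_rev, f.ti]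
    calc _ = t * t * l * (t * t) * f.U u * (t * t) * l⁻¹ * (t * t) := by rw [f.tt]; group
      _ = _ := by group
  choose γ hγ using this
  obtain ⟨σ, b, e, h1, h2, h3⟩ := isotopy (α := α) (β := β) (γ := γ) (fun x y => f.uq (one_mem _)
    (one_mem _) (by rw [f.X_add, ← hα, ← hα, ← hα, f.X_add]; group)) (fun x h => by
      have := hα x
      rw [h, add_one' f.X_add, conj_eq_one_iff] at this
      exact f.uq (one_mem _) (one_mem _) (by rw [this, add_one' f.X_add])) fun y x => by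
      obtain ⟨u, u1, u2⟩ := f.cU y x
      obtain ⟨v, v1, v2⟩ := f.cU (β y) (γ x)
      refine f.uq (cD d c m hl u1) v1 ?_
      rw [← v2, ← hβ, ← hγ, ← conjugate_commutatorElement, u2, ← hα]; group
  exact ⟨(b, e, σ), fun a => ⟨by rw [hβ, h1], by rw [hγ, h2]⟩, fun x => by rw [hα, h3]⟩

theorem kU [LN.{u}] (e : Kˣ) (u : K) : f.k e * f.U u * (f.k e)⁻¹ = f.U (e ^ 2 * u) := by
  obtain ⟨⟨a, b, σ⟩, h1, h2⟩ := f.exists_act d c m (f.k_mem e).1
  have h3 := f.Y_inj ((h1 1).1.symm.trans (f.kY e 1))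
  have h4 := f.uq (one_mem _) (one_mem _) (congrArg (· * 1) ((h2 u).symm.trans (f.kX e u)))
  simp only [map_one, mul_one] at h3 h4
  rw [(h1 u).2]; congr 1
  rw [h3, mul_assoc, Units.inv_mul_eq_iff_eq_mul] at h4
  rw [h4]; ring

theorem comm [LN.{u}] (y u : K) : ⁅f.Y y, f.U u⁆ = f.X (y * u) * f.W (y ^ 2 * u) := by
  by_cases h : y = 0
  · simp [h, add_one' f.Y_add, add_one' f.X_add, add_one' (f.W_add d)]
  obtain ⟨e, a, b⟩ := f.cU y u
  have := conjugate_commutatorElement (f.Y y) (f.U u) (f.k (Units.mk0 y h))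
  rw [f.kY, f.kU d c m, b, ← conj_mul, f.kX, ← (f.k_mem _).2 e a, mul_inv_cancel_right] at this
  simp only [Units.val_mk0, Units.val_inv_eq_inv_val, inv_mul_cancel₀ h] at this
  rw [b, W, ← this, ← mul_assoc y, ← sq, ← mul_assoc (f.X (y ^ 2 * u)), add_sq' f.X_add, one_mul]

theorem cases [LN.{u}] (h4 : 4 ≤ q) (hq : Fintype.card K = q) :
    (∀ x ∈ fixV V₁ L, ∃ z, x = f.W z) ∧ ∃ φ : K ≃+* K, (∀ a, f.φ a = φ a) ∧
    (((∀ a, f.W a = 1) ∧ (∀ a, φ (φ a) = a) ∧ ∀ a, t * f.X a * t = f.X (φ a)) ∨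
      ((∀ z, f.W z = 1 → z = 0) ∧ (∀ a, φ (φ a) = a ^ 2) ∧ ∀ a, t * f.X a * t = f.W (φ a))) := by
  have sw := d.toDat.swap_of c.tS d.tT c.tT
  have tZ : ∀ z ∈ V₁ ⊓ V₂, t * z * t ∈ V₁ ⊓ V₂ := fun z hz => by
    have := conj_mem_conj t hz
    rwa [conj_inf, sw.1, sw.2, inf_comm, f.ti] at this
  have tm : ∀ a b : Ω, t * (a * b) * t = t * a * t * (t * b * t) := fun a b => by
    calc _ = t * a * (t * t) * b * t := by rw [f.tt]; group
      _ = _ := by group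
  have t1 : ∀ a : Ω, t * a * t = 1 → a = 1 := fun a h => by
    rwa [← conj_eq_one_iff (a := t), f.ti]
  have x0 : ∀ x, f.X x = 1 → x = 0 := fun x h =>
    f.uq (one_mem _) (one_mem _) (by rw [h, add_one' f.X_add])
  have s1 : f.φ.symm 1 = 1 := f.φ.symm_apply_eq.2 f.φ1.symm
  rcases d.dq with ⟨h, -⟩ | h
  · have w1 : ∀ a, f.W a = 1 := fun a => mem_bot.1 (h ▸ f.W_mem a)
    have : ∀ x, ∃ x', t * f.X x * t = f.X x' := fun x => by
      obtain ⟨y, e, a, b⟩ := f.memZ d (tZ _ (f.X_mem x))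
      exact ⟨y, by rw [b, mem_bot.1 (h.le a), mul_one]⟩
    choose ψ hψ using this
    obtain ⟨σ, b, e, h1, h2, h3⟩ := isotopy (α := ψ) (β := f.φ) (γ := f.φ.symm)
      (fun x y => f.uq (one_mem _) (one_mem _) (by rw [f.X_add, ← hψ, ← hψ, ← hψ, f.X_add, tm]))
      (fun x h => x0 x (t1 _ (by rw [hψ, h, add_one' f.X_add]))) fun y x => by
        have := f.t_comm d y x
        rw [f.comm d c m, f.comm d c m, w1, w1, mul_one, hψ, ← mul_one (f.X (ψ _))] at this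
        rw [f.uq (one_mem _) (one_mem _) this, mul_comm]
    have b1 : (b : K) = 1 := by simpa [f.φ1] using (h1 1).symm
    have e1 : (e : K) = 1 := by simpa [s1] using (h2 1).symm
    simp only [b1, e1, one_mul] at h1 h2 h3
    exact ⟨fun x hx => ⟨0, by rw [w1, mem_bot.1 (h.le hx)]⟩, σ, h1, Or.inl ⟨w1, fun a => by
      rw [← h1 (σ a), ← h2 a, f.φ.apply_symm_apply], fun a => by rw [hψ, h3]⟩⟩
  obtain ⟨c₀, c1, c2⟩ := exists_ne01 (K := K) (by omega)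
  have hZ : t ⋆ fixV V₁ L ≤ V₁ ⊓ V₂ := fun x hx => by
    obtain ⟨y, hy, rfl⟩ := mem_conj'.1 hx
    rw [f.ti]; exact tZ _ (d.toDat.fix_le hy)
  have XD : ∀ x, f.X x ∈ t ⋆ fixV V₁ L := fun x => by
    choose π δ h1 h2 using fun z : (t ⋆ fixV V₁ L : Subgroup Ω) => f.memZ d (hZ z.2)
    obtain ⟨z, hz⟩ := (Function.Injective.bijective_of_nat_card_le (f := π) (fun a b e =>
      Subtype.ext (inv_mul_eq_one.1 (mem_bot.1 (d.dd ▸ ⟨by
        rw [h2 a, h2 b, e, mul_inv_rev, mul_assoc, inv_mul_cancel_left]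
        exact mul_mem ((fixV V₁ L).inv_mem (h1 a)) (h1 b), (t ⋆ fixV V₁ L).mul_mem ((t ⋆ fixV V₁ L).inv_mem a.2) b.2⟩))))
      (by rw [card_conj, h, Nat.card_eq_fintype_card, hq])).2 (x / (c₀ + 1))
    have k := f.k_mem (Units.mk0 c₀ c1)
    have h3 : f.k (Units.mk0 c₀ c1) * z * (f.k (Units.mk0 c₀ c1))⁻¹ ∈ t ⋆ fixV V₁ L := by
      have := cD d c m (f.tl c k.1) (mem_conj.1 z.2)
      rw [mem_conj]; convert this using 1
      rw [mul_inv_rev, mul_inv_rev, f.ti]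
      calc _ = t * f.k (Units.mk0 c₀ c1) * (t * t) * z * (t * t) * (f.k (Units.mk0 c₀ c1))⁻¹ * t := by
            rw [f.tt]; group
        _ = _ := by group
    have h5 := mul_mem h3 (inv_mem z.2)
    rw [h2 z, ← conj_mul, f.kX, ← k.2 _ (h1 z), mul_inv_cancel_right, mul_inv_rev, mul_assoc,
      mul_inv_cancel_left, inv_eq_of_mul_eq_one_right (add_sq' f.X_add _), ← f.X_add, hz] at h5
    have h6 : c₀ + 1 ≠ 0 := fun e => c2 (CharTwo.add_eq_zero.1 e)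
    convert h5 using 2
    simp only [Units.val_mk0]; field_simp
  have w0 : ∀ z, f.W z = 1 → z = 0 := fun z hz => by
    have h1 := f.t_comm d 1 z
    rw [f.comm d c m, f.comm d c m, one_pow, one_mul, hz, mul_one, f.φ1, mul_one, mul_one] at h1
    have h2 := mem_conj.1 (XD z)
    rw [f.ti, h1, mul_mem_cancel_right (f.W_mem _)] at h2
    have h3 := (f.inj 0 _ (by rwa [add_one' f.Y_add, one_mul])).2
    rw [Equiv.symm_apply_eq] at h3
    exact f.U_inj (by rw [h3, ← f.tY, add_one' f.Y_add, add_one' f.U_add, mul_one, f.tt])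
  have wi : ∀ a b, f.W a = f.W b → a = b := fun a b e => CharTwo.add_eq_zero.1 (w0 _ (by
    rw [f.W_add d, e, add_sq' (f.W_add d)]))
  have sur : ∀ x ∈ fixV V₁ L, ∃ z, x = f.W z := fun x hx => by
    obtain ⟨z, hz⟩ := (Function.Injective.bijective_of_nat_card_le
      (f := fun z => (⟨f.W z, f.W_mem z⟩ : fixV V₁ L)) (fun a b e => wi a b (Subtype.ext_iff.1 e))
      (by rw [h, Nat.card_eq_fintype_card, hq])).2 ⟨x, hx⟩
    exact ⟨z, (Subtype.ext_iff.1 hz).symm⟩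
  choose ψ hψ using fun x => sur (t * f.X x * t) (by simpa only [f.ti] using mem_conj.1 (XD x))
  obtain ⟨σ, b, e, h1, h2, h3⟩ := isotopy (α := ψ) (β := f.φ) (γ := fun x => f.φ.symm x ^ 2)
    (fun x y => wi _ _ (by rw [f.W_add d, ← hψ, ← hψ, ← hψ, f.X_add, tm]))
    (fun x h => x0 x (t1 _ (by rw [hψ, h, add_one' (f.W_add d)]))) fun y x => by
      have h1 := f.t_comm d y x
      rw [f.comm d c m, f.comm d c m, tm, hψ] at h1
      have h2 : t * f.W (y ^ 2 * x) * t ∈ t ⋆ fixV V₁ L := by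
        have := conj_mem_conj t (f.W_mem (y ^ 2 * x)); rwa [f.ti] at this
      have h3 : (f.W (f.φ.symm x ^ 2 * f.φ y))⁻¹ * f.W (ψ (y * x)) ∈ (⊥ : Subgroup Ω) :=
        d.dd ▸ ⟨mul_mem ((fixV V₁ L).inv_mem (f.W_mem _)) (f.W_mem _), by
          rw [eq_mul_inv_of_mul_eq h1, ← d.toDat.sq₁.cent (f.X_mem _).1 _ (fixV_le _ _ (f.W_mem _)),
            ← mul_assoc, inv_mul_cancel_left]
          exact mul_mem (XD _) ((t ⋆ fixV V₁ L).inv_mem h2)⟩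
      rw [← wi _ _ (inv_mul_eq_one.1 (mem_bot.1 h3)), mul_comm]
  have b1 : (b : K) = 1 := by simpa [f.φ1] using (h1 1).symm
  have e1 : (e : K) = 1 := by simpa [s1] using (h2 1).symm
  simp only [b1, e1, one_mul] at h1 h2 h3
  exact ⟨sur, σ, h1, Or.inr ⟨w0, fun a => by rw [← h2, ← h1, f.φ.symm_apply_apply],
    fun a => by rw [hψ, h3]⟩⟩

omit [Fintype K] [CharP K 2] [Finite Ω] d c m in
theorem Act.mul {l l' : Ω} {p p' : Kˣ × Kˣ × (K ≃+* K)} (h : f.Act l p) (h' : f.Act l' p') :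
    f.Act (l * l') (p.1 * Units.map (p.2.2 : K →* K) p'.1, p.2.1 * Units.map (p.2.2 : K →* K) p'.2.1,
      p.2.2 * p'.2.2) := fun a => by
  have e : ∀ x, l * l' * x * (l * l')⁻¹ = l * (l' * x * l'⁻¹) * l⁻¹ := fun x => by group
  rw [e, e, (h' a).1, (h' a).2, (h _).1, (h _).2]
  simp [mul_assoc]

omit [Finite Ω] d c m in
theorem Act.tw {p : Kˣ × Kˣ × (K ≃+* K)} (h : f.Act l p) {φ : K ≃+* K} (hφ : ∀ a, f.φ a = φ a) :
    f.Act (t * l * t) (Units.map (φ.symm : K →* K) p.2.1, Units.map (φ : K →* K) p.1, p.2.2) :=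
  fun a => by
  have e : ∀ x, t * l * t * x * (t * l * t)⁻¹ = t * (l * (t * x * t) * l⁻¹) * t := fun x => by
    rw [mul_inv_rev, mul_inv_rev, f.ti]; group
  have h' : ∀ a, f.φ.symm a = φ.symm a := fun a => by
    rw [Equiv.symm_apply_eq, hφ, φ.apply_symm_apply]
  rw [e, e, f.tY, f.tU, (h _).1, (h _).2, f.tY, f.tU, hφ, hφ, h', h']
  simp [ringAut_comm p.2.2]

include f in
theorem crd [LN.{u}] (h4 : 4 ≤ q) (hq : Fintype.card K = q) :
    ∃ k : Crd F T V₁ V₂ K, k.t = t ∧ (k.L3 ∨ k.S4) := by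
  obtain ⟨sur, φ, hφ, hc⟩ := f.cases d c m h4 hq
  have y0 := add_one' f.Y_add
  have u0 := add_one' f.U_add
  have x0 := add_one' f.X_add
  have w0 := add_one' (f.W_add d)
  have WZ := fun z => d.toDat.fix_le (f.W_mem z)
  have sw := d.toDat.swap_of c.tS d.tT c.tT
  have mZ : ∀ g ∈ V₁ ⊓ V₂, ∃ x z, g = f.X x * f.W z := fun g hg => by
    obtain ⟨x, e, a, rfl⟩ := f.memZ d hg
    obtain ⟨z, rfl⟩ := sur e a
    exact ⟨x, z, rfl⟩
  have m1 : ∀ g ∈ V₁, ∃ y x z, g = f.Y y * f.X x * f.W z := fun g hg => by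
    obtain ⟨y, x, e, a, rfl⟩ := f.dec g hg
    obtain ⟨z, rfl⟩ := sur e a
    exact ⟨y, x, z, rfl⟩
  have m2 : ∀ g ∈ V₂, ∃ u, ∃ z ∈ V₁ ⊓ V₂, g = f.U u * z := fun g hg => by
    obtain ⟨y, x, z, e⟩ := m1 _ (sw.2.le (conj_mem_conj t hg))
    refine ⟨f.φ y, t * (f.X x * f.W z) * t, ?_, ?_⟩
    · have := conj_mem_conj t (mul_mem (f.X_mem x) (WZ z))
      rwa [conj_inf, sw.1, sw.2, inf_comm, f.ti] at this
    · rw [← f.tY]
      calc g = t * (t * g * t⁻¹) * t := by rw [← mul_assoc, ← mul_assoc, f.tt]; group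
        _ = t * f.Y y * (t * t) * (f.X x * f.W z) * t := by rw [e, f.tt]; group
        _ = _ := by group
  have mT : ∀ g ∈ T, ∃ y u x z, g = f.Y y * f.U u * f.X x * f.W z := fun g hg => by
    obtain ⟨a, ha, b, hb, rfl⟩ := d.mem_T.1 hg
    obtain ⟨y, x, z, rfl⟩ := m1 a ha
    obtain ⟨u, e, he, rfl⟩ := m2 b hb
    have h1 := mul_mem (f.X_mem x) (WZ z)
    obtain ⟨x', z', h⟩ := mZ _ (mul_mem h1 he)
    refine ⟨y, u, x', z', ?_⟩
    rw [mul_assoc _ (f.X x'), ← h, mul_assoc (f.Y y), mul_assoc (f.Y y), ← mul_assoc _ (f.U u),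
      ← d.toDat.sq₂.cent h1.2 _ (f.U_mem u)]; group
  have YT := fun a => d.toDat.le₁ (f.Y_mem a)
  have UT := fun a => d.toDat.le₂ (f.U_mem a)
  have SG : S ≤ G := d.nIn ▸ m.syl.le
  have bot : ∀ x ∈ Λ, x ∈ T → x = 1 := fun x a b =>
    mem_bot.1 (inf_eq_bot_of_two (d.two.to_le d.toDat.TS) c.odd ▸ ⟨a, b⟩)
  have aut : ∀ g ∈ G, ∃ s ∈ S, ∃ l ∈ Λ, s * l = g ∧ ∃ p, f.Act l p ∧ ∀ a,
      g * f.Y a * g⁻¹ = s * f.Y (p.1 * p.2.2 a) * s⁻¹ ∧
      g * f.U a * g⁻¹ = s * f.U (p.2.1 * p.2.2 a) * s⁻¹ := fun g hg => by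
    obtain ⟨s, a, l, b, rfl⟩ := c.dec g hg
    obtain ⟨p, h, -⟩ := f.exists_act d c m b
    exact ⟨s, a, l, b, rfl, p, h, fun x => by rw [← (h x).1, ← (h x).2]; constructor <;> group⟩
  refine ⟨⟨f.Y, f.U, f.X, f.W, t, φ, {p | ∃ l ∈ Λ, f.Act l p}, f.w, f.Y_add, f.U_add, f.X_add,
    f.W_add d, fun a => d.Z_cent (f.X_mem a), fun a => d.Z_cent (WZ a), f.comm d c m,
    fun y u x z h => ?_, fun g => ⟨mT g, ?_⟩, fun g => ⟨m1 g, ?_⟩, fun g => ⟨fun hg => ?_, ?_⟩,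
    c.tS, c.tT, f.tt, fun y => by rw [f.tY, hφ], ⟨1, one_mem _, fun a => by simp⟩, ?_, ?_,
    fun e => ⟨_, (f.k_mem e).1, fun a => ⟨by simpa using f.kY e a, by simpa using f.kU d c m e a⟩⟩,
    fun p ⟨l, a, b⟩ => ⟨_, f.tl c a, b.tw f hφ⟩, fun σ h => ?_, fun p ⟨l, a, b⟩ =>
    ⟨_, d.isoG m (c.le a).1, b⟩, fun σ h => ?_, ?_, f.wF,
    fun a => ⟨(f.wY a).1, (f.wY a).2, f.wD _ (f.W_mem a)⟩⟩, rfl, ?_⟩
  · have h1 : f.U u ∈ V₁ := by
      have : f.Y y * f.U u * f.X x * f.W z ∈ V₁ := h ▸ one_mem _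
      rwa [V₁.mul_mem_cancel_right (WZ z).1, V₁.mul_mem_cancel_right (f.X_mem x).1,
        V₁.mul_mem_cancel_left (f.Y_mem y)] at this
    have h2 := sw.1.le (conj_mem_conj t h1)
    rw [f.ti, f.tU] at h2
    obtain rfl : u = 0 := f.U_inj (by
      rw [(Equiv.symm_apply_eq _).1 (f.Y0 _ h2), ← f.tY, y0, u0, mul_one, f.tt])
    rw [u0, mul_one] at h
    obtain ⟨a, b⟩ := f.inj y x (eq_inv_of_mul_eq_one_left h ▸ (fixV V₁ L).inv_mem (f.W_mem z))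
    exact ⟨a, rfl, b⟩
  · rintro ⟨y, u, x, z, rfl⟩
    exact mul_mem (mul_mem (mul_mem (YT y) (UT u)) (d.toDat.le₁ (f.X_mem x).1)) (d.toDat.le₁ (WZ z).1)
  · rintro ⟨y, x, z, rfl⟩
    exact mul_mem (mul_mem (f.Y_mem y) (f.X_mem x).1) (WZ z).1
  · obtain ⟨u, e, he, rfl⟩ := m2 g hg
    obtain ⟨x, z, rfl⟩ := mZ e he
    exact ⟨u, x, z, (mul_assoc _ _ _).symm⟩
  · rintro ⟨y, x, z, rfl⟩
    exact mul_mem (mul_mem (f.U_mem y) (f.X_mem x).2) (WZ z).2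
  · rintro p ⟨l, a, b⟩ p' ⟨l', a', b'⟩
    exact ⟨_, mul_mem a a', b.mul f b'⟩
  · rintro p ⟨l, a, b⟩
    have : ∀ n : ℕ, ∃ x y, f.Act (l ^ n) (x, y, p.2.2 ^ n) := fun n => by
      induction n with
      | zero => exact ⟨1, 1, fun a => by simp⟩
      | succ n ih =>
        obtain ⟨x, y, h⟩ := ih
        exact ⟨_, _, by rw [pow_succ, pow_succ]; exact h.mul f b⟩
    obtain ⟨x, y, h⟩ := this #|Λ|
    have e : l ^ #|Λ| = 1 := congrArg Subtype.val (pow_card_eq_one' (x := (⟨l, a⟩ : Λ)))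
    have h1 := fun a => f.Y_inj (by simpa [e] using (h a).1 : f.Y a = f.Y (x * (p.2.2 ^ #|Λ|) a))
    have h2 : (x : K) = 1 := by simpa using (h1 1).symm
    exact c.odd.of_dvd_nat (orderOf_dvd_of_pow_eq_one (RingEquiv.ext fun a => by
      simpa [h2] using (h1 a).symm))
  · obtain ⟨g, a, b⟩ := d.exists_G m h.isMap le_rfl h
    obtain ⟨s, s1, l, l1, -, p, p1, p2⟩ := aut g a
    exact ⟨s, s1, p, ⟨l, l1, p1⟩, fun x => by rw [b _ (YT x), b _ (UT x)]; exact p2 x⟩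
  · obtain ⟨g, a, b⟩ := d.exists_G m h.isMap d.toDat.TS (d.isoT h4 h)
    obtain ⟨s, s1, l, l1, rfl, p, p1, p2⟩ := aut g a
    have h1 : l * t * l⁻¹ ∈ S := by
      have := mul_mem (mul_mem (S.inv_mem s1) (h.mem c.tS)) s1
      rw [b _ c.tS] at this
      convert this using 1; group
    have h2 : l * t * l⁻¹ * t = 1 := bot _ (by
      simpa only [mul_assoc] using mul_mem l1 (f.tl c (Λ.inv_mem l1)))
      ((d.mem_S h1).resolve_left fun e => c.tT ((mem_normalizer_iff.1 (m.nrm (c.le l1).1) t).2 e))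
    rw [← f.tt, mul_left_inj] at h2
    refine ⟨s, s1, p, ⟨l, l1, p1⟩, ?_, ?_, fun x => by
      rw [b _ (d.toDat.TS (YT x)), b _ (d.toDat.TS (UT x))]; exact p2 x⟩
    · have h3 := ((p1.tw f hφ) 1).2
      rw [show t * l * t = l by
        rw [← mul_inv_eq_iff_eq_mul.1 h2, mul_assoc, f.tt, mul_one], (p1 1).2] at h3
      simpa using f.U_inj h3
    · rw [b _ c.tS]
      calc _ = s * (l * t * l⁻¹) * s⁻¹ := by group
        _ = _ := by rw [h2]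
  · rintro p ⟨l, a, b⟩ hp
    have h1 := b.tw f hφ
    have h2 : ∀ x, (t * l * t)⁻¹ * l ∈ 𝐂[x] ↔ l * x * l⁻¹ = t * l * t * x * (t * l * t)⁻¹ :=
      fun x => by
        rw [mem_cent1, ← mul_inv_eq_iff_eq_mul, ← mul_right_inj (t * l * t), ← mul_left_inj (t * l * t)⁻¹]
        constructor <;> intro h <;> convert h using 1 <;> group
    have hY : ∀ x, (t * l * t)⁻¹ * l ∈ 𝐂[f.Y x] := fun x => by
      rw [h2, (b x).1, (h1 x).1]; simp [hp]
    have hU : ∀ x, (t * l * t)⁻¹ * l ∈ 𝐂[f.U x] := fun x => by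
      rw [h2, (b x).2, (h1 x).2]; simp [hp]
    simp only [mem_cent1_comm (y := (t * l * t)⁻¹ * l)] at hY hU
    generalize hj : (t * l * t)⁻¹ * l = j at hY hU
    have hC : ∀ y u, f.X (y * u) * f.W (y ^ 2 * u) ∈ 𝐂[j] := fun y u =>
      f.comm d c m y u ▸ comm_le_of_le (zpowers_le.2 (hY y)) (zpowers_le.2 (hU u))
        (commutator_mem_commutator (mem_zpowers _) (mem_zpowers _))
    obtain ⟨c₀, c1, c2⟩ := exists_ne01 (K := K) (by omega)
    have h6 : c₀ ^ 2 + c₀ ≠ 0 := fun e => c2 (mul_right_cancel₀ c1 (by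
      rw [← sq, CharTwo.add_eq_zero.1 e, one_mul]))
    have hW : ∀ z, f.W z ∈ 𝐂[j] := fun z => by
      have := mul_mem (inv_mem (hC 1 (c₀ * (z / (c₀ ^ 2 + c₀))))) (hC c₀ (z / (c₀ ^ 2 + c₀)))
      rw [one_mul, mul_inv_rev, mul_assoc, inv_mul_cancel_left,
        inv_eq_of_mul_eq_one_right (add_sq' (f.W_add d) _), ← f.W_add d] at this
      convert this using 2
      rw [one_pow, one_mul, ← add_mul, add_comm, mul_div_cancel₀ _ h6]
    have hX : ∀ z, f.X z ∈ 𝐂[j] := fun z => by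
      simpa using (mul_mem_cancel_right (hW _)).1 (hC 1 z)
    have h3 : t * l * t = l := inv_mul_eq_one.1 (mem_bot.1 (c.cen ⟨mul_mem (Λ.inv_mem (f.tl c a)) a,
      hj ▸ le_cent1_iff.1 fun g hg => by
        obtain ⟨y, u, x, z, rfl⟩ := mT g hg
        exact mul_mem (mul_mem (mul_mem (hY y) (hU u)) (hX x)) (hW z)⟩))
    have h5 : l * t * l⁻¹ = t := by
      nth_rw 1 [← h3]
      rw [mul_assoc (t * l), f.tt]; group
    have n : l ∈ 𝐍(S) := conj_eq_self_iff.1 (by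
      rw [d.eS, conj_sup, conj_zpowers, h5, conj_of_mem_norm (m.nrm (c.le a).1)])
    exact ⟨cj l, (m.nMap d.nIn.ge (c.le a).1 (by rw [conj_of_mem_norm n, d.nIn])).isMap.iso_of_img
      (img_cj_eq_iff.2 n), h5, b⟩
  · rcases hc with ⟨a, b, e⟩ | ⟨a, b, e⟩
    · exact Or.inl ⟨a, b, e⟩
    · refine Or.inr ⟨fun x z (h : f.X x * f.W z = 1) => a z ?_, b, e⟩
      have := f.uq (f.W_mem z) (one_mem _) (h.trans (by rw [x0, mul_one] : _ = f.X 0 * 1))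
      rwa [this, x0, one_mul] at h

end Fu

instance instCM [FD.{u}] [LN.{u}] : CM.{u} := ⟨fun d h4 m => by
  obtain ⟨Λ, t, c⟩ := d.exists_cpl m
  obtain ⟨K, _, _, _, hq, ⟨f⟩⟩ := d.exists_fo m h4 c
  obtain ⟨f⟩ := f.exists_fu d c m (by omega)
  have d' := d.chg c.tS c.tT (f.tt ▸ one_mem _)
  obtain ⟨k, rfl, h⟩ := f.crd d' c m h4 hq
  exact ⟨K, _, _, ‹_›, k, hq, d', h⟩⟩

end Cfsg.Agent.Pu
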