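import Cfsg.Agent.Pu.D0
import Cfsg.Agent.H6.Real2
import Cfsg.Agent.H8.MaxCl
import Cfsg.Agent.H4.Taussky
import Cfsg.Agent.H7.More
import Cfsg.Agent.S5096

/-! Slice G1 of `S5175`: a self-centralizing four-group with an automorphism of order 3. -/

set_option autoImplicit false

universe u

namespace Cfsg.Agent.Pu

open Cfsg Cfsg.Fus Cfsg.FusionSystem Cfsg.Agent.H6 Subgroup Matrix Matrix.ProjGenLinGroup
open scoped MatrixGroups commutatorElement

/-- Suzuki: a `2`-group with a self-centralizing four-subgroup has maximal class. -/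
theorem maxCl_of_four {G : Type u} [Group G] [Finite G] (hG : IsPGroup 2 G) {V : Subgroup G}
    (h4 : IsKleinFour V) (hC : centralizer (V : Set G) ≤ V) (h8 : 8 ≤ Nat.card G) :
    (∃ n, 2 ≤ n ∧ Nonempty (G ≃* DihedralGroup n)) ∨ IsQuasiDihedral G := by
  obtain ⟨k, hk⟩ := IsPGroup.iff_card.1 hG
  obtain ⟨k, rfl⟩ : ∃ j, k = j + 3 := ⟨k - 3, by
    have := (Nat.pow_le_pow_iff_right (a := 2) (n := 3) one_lt_two).1 (hk ▸ h8); omega⟩
  have hV := h4.card_four
  have hnt : V ≠ ⊤ := fun e => by rw [e, card_top] at hV; omega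
  obtain ⟨a, ha, b, hb, a1, b1, ab, hel⟩ := four_elts h4
  have hcm : ∀ x ∈ V, ∀ y ∈ V, x * y = y * x := fun x hx y hy => congrArg Subtype.val
    (Commute.of_orderOf_dvd_two (fun z => h4.exponent_two ▸ Monoid.order_dvd_exponent z)
      (⟨x, hx⟩ : V) ⟨y, hy⟩).eq
  have hsq : ∀ x ∈ V, x * x = 1 := fun x hx => by
    have := congrArg Subtype.val (Monoid.pow_exponent_eq_one (⟨x, hx⟩ : V))
    rwa [h4.exponent_two, pow_two] at this
  obtain ⟨z, -, -, z1, hz⟩ := exists_central_invol hG (N := ⊤) fun e => hnt (le_antisymm le_top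
    (e ▸ bot_le))
  have hzV : z ∈ V := hC fun x _ => (hz x).eq
  obtain ⟨t, htV, ht⟩ : ∃ t ∈ V, ∀ g, g * t = t * g → g ∈ V := by
    have key : ∀ x y g : G, (∀ v ∈ V, v = 1 ∨ v = x ∨ v = y ∨ v = x * y) → Commute g x → Commute g y →
        g ∈ V := fun x y g h hx hy => hC fun v hv => by
      rcases h v hv with rfl | rfl | rfl | rfl
      exacts [by simp, hx.eq.symm, hy.eq.symm, (hx.mul_right hy).eq.symm]
    rcases hel z hzV with rfl | rfl | rfl | rfl
    · exact absurd rfl z1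
    · exact ⟨b, hb, fun g hg => key _ _ g hel (hz g) hg⟩
    · exact ⟨a, ha, fun g hg => key _ _ g hel hg (hz g)⟩
    · refine ⟨a, ha, fun g hg => key _ _ g hel hg ?_⟩
      simpa using (Commute.inv_right hg).mul_right (hz g)
  have h1 : (commutator G).index ≤ 4 := by
    have e1 : (centralizer ({t} : Set G)).index ≤ Nat.card (commutator G) := by
      refine Nat.card_le_card_of_injective (fun q : G ⧸ centralizer ({t} : Set G) =>
        (⟨⁅q.out, t⁆, commutator_mem_commutator (mem_top _) (mem_top _)⟩ : commutator G)) fun p q e => ?_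
      have e' : ⁅p.out, t⁆ = ⁅q.out, t⁆ := congrArg Subtype.val e
      rw [← p.out_eq', ← q.out_eq', QuotientGroup.eq, mem_centralizer_singleton_iff]
      rw [commutatorElement_def, commutatorElement_def, mul_left_inj] at e'
      calc _ = p.out⁻¹ * (q.out * t * q.out⁻¹) * q.out := by group
        _ = _ := by rw [← e']; group
    have e2 : Nat.card (centralizer ({t} : Set G)) ≤ 4 :=
      hV ▸ card_le_of_le fun g hg => ht g (mem_centralizer_singleton_iff.1 hg)
    have e3 := (centralizer ({t} : Set G)).card_mul_index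
    have e4 := (commutator G).card_mul_index
    have e5 : 0 < Nat.card (commutator G) := Nat.card_pos
    nlinarith
  have h2 : ¬ (commutator G).index ≤ 2 := fun hle => by
    have hcyc : IsCyclic (G ⧸ commutator G) := by
      have : 0 < (commutator G).index := Nat.pos_of_ne_zero index_ne_zero_of_finite
      rcases (by omega : (commutator G).index = 1 ∨ (commutator G).index = 2) with e | e
      · have := (Nat.card_eq_one_iff_unique.1 e).1
        infer_instance
      · exact isCyclic_of_prime_card e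
    obtain ⟨g, hg⟩ := hcyc.exists_generator
    obtain ⟨g, rfl⟩ := QuotientGroup.mk_surjective g
    have : zpowers g = ⊤ := H1.eq_top_of_sup_le_frattini (H1.commutator_le_frattini_of_isPGroup hG)
      (eq_top_iff.2 fun x _ => by
        obtain ⟨n, hn⟩ := hg (x : G ⧸ commutator G)
        have : (g ^ n)⁻¹ * x ∈ commutator G := QuotientGroup.eq.1 (by simpa using hn)
        simpa using mul_mem_sup (zpow_mem_zpowers g n) this)
    refine hnt (eq_top_iff.2 fun x _ => ht x ?_)
    obtain ⟨i, rfl⟩ := mem_zpowers_iff.1 (this ▸ mem_top x)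
    obtain ⟨j, rfl⟩ := mem_zpowers_iff.1 (this ▸ mem_top t)
    exact zpow_mul_comm _ _ _
  have h3 : (commutator G).index = 4 := by
    obtain ⟨j, -, e⟩ := (Nat.dvd_prime_pow Nat.prime_two).1 (hk ▸ (commutator G).index_dvd_card)
    rw [e] at h1 h2 ⊢
    have := (Nat.pow_le_pow_iff_right (a := 2) (n := j) (m := 2) one_lt_two).1 h1
    interval_cases j <;> simp_all
  obtain ⟨x, y, hx, hy, hxy, hne⟩ := H4.taussky hk h3
  have hx2 : x ^ 2 ≠ 1 := fun e => by
    have := orderOf_dvd_of_pow_eq_one e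
    rw [hx, pow_add] at this
    have := Nat.le_of_dvd two_pos this
    have := Nat.two_pow_pos k
    omega
  have hinv : x⁻¹ = x ^ (2 ^ (k + 2) - 1) := (eq_inv_of_mul_eq_one_left (by
    rw [← pow_succ, Nat.sub_add_cancel Nat.one_le_two_pow, ← hx, pow_orderOf_eq_one])).symm
  have hp := Nat.two_pow_pos k
  obtain ⟨r, hr, hr4⟩ : ∃ r, y * x * y⁻¹ = x ^ r ∧ r % 4 = 3 := by
    rcases hxy with e | e
    · exact ⟨_, e.trans hinv, by rw [pow_add]; omega⟩
    · obtain _ | k := k
      · exact absurd (e.trans (by simp [pow_two])) hne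
      · exact ⟨_, e.trans (by rw [hinv, ← pow_add]), by
          have := Nat.two_pow_pos k
          rw [pow_add, pow_add, pow_add]; omega⟩
  rcases (H8.maxCl_of_index_two hG hr hr4 hx2 hy (H4.index_zpowers_eq_two hk hx)).cases with
    h | h | ⟨n, hn, ⟨e⟩⟩
  exacts [Or.inl h, Or.inr h, by
    have : NeZero n := ⟨by omega⟩
    have key : ∀ v : QuaternionGroup n, v * v = 1 → v ≠ 1 → v = QuaternionGroup.a n := by
      rintro (i | i) h h1
      · have h2 : i + i = 0 := QuaternionGroup.a.inj h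
        rcases (ZMod.neg_eq_self_iff i).1 (neg_eq_of_add_eq_zero_left h2) with rfl | h3
        · exact absurd rfl h1
        · rw [← ZMod.natCast_zmod_val i, Nat.eq_of_mul_eq_mul_left two_pos h3]
      · have := QuaternionGroup.orderOf_xa i
        rw [orderOf_eq_prime (p := 2) (by rwa [pow_two]) h1] at this
        omega
    exact absurd (e.injective ((key _ (by rw [← map_mul, hsq a ha, map_one]) (by simpa)).trans
      (key _ (by rw [← map_mul, hsq b hb, map_one]) (by simpa)).symm)) ab]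

variable {Ω : Type u} [Group Ω] {S : Subgroup Ω} {F : FusionSystem S}

theorem realBy_equiv {G G' : Type*} [Group G] [Group G'] [Finite G] (h : RealBy F G) (e : G ≃* G') :
    RealBy F G' := by
  obtain ⟨P, θ, θ', t⟩ := h.exists_transp
  exact (realBy_group (P.mapSurjective (f := e.toMonoidHom) e.surjective)).of_transp
    (t.trans (L.transp_group_equiv e P).restrict)

section PGL
variable {K : Type} [Field K] [Fintype K]

theorem range_toPGL : (ProjectiveSpecialLinearGroup.toPGL : PSL(2, K) →* _).range = sqN K := by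
  ext g
  obtain ⟨g, rfl⟩ := mk_surjective g
  rw [mk_mem_sqN]
  constructor
  · rintro ⟨x, e⟩
    obtain ⟨x, rfl⟩ := QuotientGroup.mk_surjective x
    obtain ⟨u, rfl⟩ := mk_eq_mk_iff.1 e
    exact ⟨u, by simp [pow_two]⟩
  · rintro ⟨u, e⟩
    have hu : u ≠ 0 := by
      rintro rfl
      exact (GeneralLinearGroup.det g).ne_zero (by simpa using e.symm)
    refine ⟨QuotientGroup.mk ⟨u⁻¹ • g.1, ?_⟩, mk_eq_mk_iff.2 ⟨Units.mk0 u hu, Units.ext ?_⟩⟩
    · rw [Matrix.det_smul, ← GeneralLinearGroup.val_det_apply, ← e]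
      simp [hu]
    · ext i j
      simp [mul_comm, hu, SpecialLinearGroup.toGL]

theorem eq_one_of_comm {g : PGL(2, K)} (h1 : Commute g (mk (gl2 1 1 0 1 (by simp))))
    (h2 : Commute g (mk (gl2 1 0 1 1 (by simp)))) : g = 1 := by
  obtain ⟨g, rfl⟩ := mk_surjective g
  obtain ⟨a, b, c, d, h, rfl⟩ := exists_gl2 g
  rw [Commute, SemiconjBy, ← map_mul, ← map_mul, gl2_mul, gl2_mul, mk_gl2_eq] at h1 h2
  obtain ⟨u, -, e1, e2, e3, e4⟩ := h1
  obtain ⟨v, -, f1, f2, f3, f4⟩ := h2
  simp only [mul_one, mul_zero, add_zero, one_mul, zero_mul, zero_add] at *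
  have hc : c = 0 := by
    by_contra hc
    have : u = 1 := mul_left_cancel₀ hc (e3.trans (mul_one _).symm)
    exact hc (by linear_combination -e1 + a * this)
  have hb : b = 0 := by
    by_contra hb
    have : v = 1 := mul_left_cancel₀ hb (f2.trans (mul_one _).symm)
    exact hb (by linear_combination f1 - (a + b) * this)
  subst hb hc
  have ha : a ≠ 0 := by rintro rfl; simp at h
  have : u = 1 := mul_left_cancel₀ ha (by linear_combination e1)
  rw [← mk_one, gl2_one, mk_gl2_eq]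
  exact ⟨a⁻¹, inv_ne_zero ha, mul_inv_cancel₀ ha, by simp, by simp, by
    rw [show d = a by linear_combination -e2 + a * this, mul_inv_cancel₀ ha]⟩

variable {t : ℕ} (hK : Fintype.card K = t + 1) (ht : 2 ∣ t)

theorem centralizer_tw (σ : K →+* K) (hσ : ∀ x, σ (σ x) = x) :
    centralizer ((Tw.incl (pglData hK ht σ hσ)).range : Set (Tw (pglData hK ht σ hσ))) = ⊥ := by
  refine eq_bot_iff.2 fun ⟨g⟩ hg => ?_
  have key : ∀ x ∈ sqN K, ProjGenLinGroup.map σ x = x → Commute g x := fun x hx e => by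
    have := hg ⟨x⟩ (Tw.mk_mem_range.2 hx)
    rw [Tw.mul_of_mem hx] at this
    by_cases h : g ∈ sqN K
    · rw [Tw.mul_of_mem h] at this
      exact (congrArg Tw.val this).symm
    · rw [Tw.mul_of_not h] at this
      exact (e ▸ congrArg Tw.val this :).symm
  rw [mem_bot, Tw.one_eq, eq_one_of_comm
    (key _ (mk_mem_sqN.2 ⟨1, by rw [det_gl2]; simp⟩) (by simp [map_gl2]))
    (key _ (mk_mem_sqN.2 ⟨1, by rw [det_gl2]; simp⟩) (by simp [map_gl2]))]

/-- the untwisted group -/
def twId : Tw (pglData hK ht (RingHom.id K) fun _ => rfl) ≃* PGL(2, K) where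
  toFun := Tw.val
  invFun g := ⟨g⟩
  left_inv _ := rfl
  right_inv _ := rfl
  map_mul' := fun ⟨x⟩ ⟨y⟩ => by
    by_cases h : x ∈ sqN K
    · rw [Tw.mul_of_mem h]
    · rw [Tw.mul_of_not h]
      exact congrArg (x * ·) (DFunLike.congr_fun ProjGenLinGroup.map_id y)

end PGL

theorem real_d' {m : ℕ} (T : Tab S (mcσ (0 : ZMod (2 ^ (m + 2))))) (hF : F.IsSaturated 2) {l}
    (hn : NT F (T.ext ((mc_d m).good2 l))) : ∃ t, ∃ _ : Fact (t + 1).Prime, 2 ∣ t ∧
      (RealBy F PSL(2, ZMod (t + 1)) ∨ RealBy F PGL(2, ZMod (t + 1))) := by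
  have h := mc_d m
  have hor : NT F (T.ext (h.good2 0)) ∨ NT F (T.ext (h.good2 1)) := by
    rcases h.q_mul l with e | e
    · exact Or.inl ((h.nt_congr T _ _ (by linear_combination e)).1 hn)
    · exact Or.inr ((h.nt_congr T _ _ (by linear_combination e)).1 hn)
  by_cases hp : NT F (T.ext (h.good2 0)) ∧ NT F (T.ext (h.good2 1))
  · obtain ⟨t, ht, ht'⟩ := exists_prime_sub (m + 2)
    have := Fact.mk ht
    obtain ⟨Q, T₂, hT⟩ := PSL2_both (card_zmod_succ t) ht'
    exact ⟨t, this, (dvd_pow_self 2 (by omega)).trans ht'.dvd, Or.inl (h.realBy T hF Q T₂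
      (iff_of_true hp.1 (hT 0)) (fun _ => iff_of_true hp.2 (hT 1)) fun e => absurd e.symm h.two_q_ne)⟩
  obtain ⟨t, ht, ht'⟩ := exists_prime_sub (m + 1)
  have := Fact.mk ht
  have ht2 : 2 ∣ t := (dvd_pow_self 2 (by omega)).trans ht'.dvd
  refine ⟨t, this, ht2, Or.inr (realBy_equiv ?_ (twId (card_zmod_succ t) ht2))⟩
  obtain ⟨P, T', hT⟩ := exists_tw_pgl (r := 1) (j := 2 ^ (m + 1) - 1) (card_zmod_succ t) ht'
    (RingHom.id _) (fun _ => rfl) (fun _ => by simp) (twoPart_one rfl)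
    (by have := Nat.one_le_two_pow (n := m + 1); rw [pow_succ' 2 (m + 1)]; exact dvd_of_eq (by omega))
    h (by
      have := Nat.one_le_two_pow (n := m + 1)
      rw [show 2 * (2 ^ (m + 1) - 1) + 1 = 2 ^ (m + 2) - 1 by rw [pow_succ' 2 (m + 1)]; omega,
        Nat.cast_sub Nat.one_le_two_pow, ZMod.natCast_self, Nat.cast_one]) (ht2 := ht2)
  have h1 : ¬ (OddTriv (T'.ext (h.good2 0)) ∧ OddTriv (T'.ext (h.good2 1))) := fun ⟨h0, h1⟩ =>
    hT fun l _ => by
      rcases h.q_mul l with e | e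
      · obtain ⟨s, -, hs⟩ := h.exists_cj_ext T' (h.good2 l) (h.good2 0) (by linear_combination e)
        exact hs ▸ h0.cj s
      · obtain ⟨s, -, hs⟩ := h.exists_cj_ext T' (h.good2 l) (h.good2 1) (by linear_combination e)
        exact hs ▸ h1.cj s
  have h2 : OddTriv (T'.ext (h.good2 0)) ∨ OddTriv (T'.ext (h.good2 1)) := by
    by_contra hc
    push Not at hc
    exact h.dih_no_index_two_of_both P T' hc.1 hc.2 _ Tw.index_range
  by_cases hq : NT F (T.ext (h.good2 0)) ↔ ¬ OddTriv (T'.ext (h.good2 0))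
  · exact h.realBy T hF P T' hq (fun _ => by tauto) fun e => absurd e.symm h.two_q_ne
  · have hc : (1 : ZMod (2 ^ (m + 2))) + mcσ 0 1 = 0 := by simp
    refine h.realBy T hF P (T'.shift 1 hc) ?_ (fun _ => ?_) fun e => absurd e.symm h.two_q_ne
    · rw [T'.shift_ext hc _ (h.good2 _)]
      simp only [zero_add]
      tauto
    · obtain ⟨s, -, hs⟩ := h.exists_cj_ext T' (h.good2 (1 + 1)) (h.good2 0)
        (by linear_combination h.four_q)
      obtain ⟨s', -, hs'⟩ := h.exists_cj_ext T' (h.good2 0) (h.good2 (1 + 1))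
        (by linear_combination -h.four_q)
      rw [T'.shift_ext hc _ (h.good2 _), show OddTriv (T'.ext (h.good2 (1 + 1))) ↔
        OddTriv (T'.ext (h.good2 0)) from ⟨fun e => hs' ▸ e.cj s', fun e => hs ▸ e.cj s⟩]
      tauto

theorem nt_move {G : Type*} [Group G] [Finite G] {R : Type*} [CommRing R] {m : ℕ} {q ε : R}
    (h : MC R m q ε) {P : Subgroup G} (T : Tab P (mcσ ε)) {E : FusionSystem P} {l : R}
    (hn : NT E (T.ext (h.good4 l))) :
    ∃ f k, E.IsMap (T.ext (h.good4 l)) f ∧ f (T.a q) = T.b k := by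
  obtain ⟨α, hα, ho, hne⟩ := hn
  have hφ := oddAut_extAut ((h.isPGroup T).to_le (T.ext_le (h.good4 l))) ho
  have hm := L.isMap_extAut (T.ext_le _) hα
  have hq : T.a q ∈ T.ext (h.good4 l) := T.a_mem_ext _ |>.2 (mem_tor.2 h.four_q)
  rcases hφ.mem _ hq with ⟨i, hi, e⟩ | ⟨k, -, e⟩
  swap
  · exact ⟨_, k, hm, e⟩
  have := h.isAddCyclic_sub (tor 4)
  have h6 : ∀ x ∈ T.sub (tor 4), extAut _ α x = x := fun x hx => by
    refine hφ.cyc _ (T.isCyclic_sub _) x (T.sub_le_ext _ hx) hx ?_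
    rw [← h.zmultiples_q, ← T.zpowers_a] at hx
    obtain ⟨n, rfl⟩ := mem_zpowers_iff.1 hx
    rw [hm.homOn.map_zpow hq, e]
    exact zpow_mem (T.a_mem_sub.2 hi) n
  refine absurd (aut_eq_one_of_extAut fun x hx => ?_) hne
  rcases id hx with ⟨i, hi, rfl⟩ | ⟨i, hi, rfl⟩
  · exact h6 _ (T.a_mem_sub.2 hi)
  rcases hφ.mem _ hx with ⟨k, hk, e'⟩ | ⟨k, hk, e'⟩
  · exact hφ.inj _ (hφ.mem _ hx) _ hx (h6 _ (e' ▸ T.a_mem_sub.2 hk))
  · refine hφ.step _ hx (h6 _ ?_)
    rw [e', T.b_mul_b_inv, T.a_mem_sub]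
    simpa using sub_mem hk hi

/-- in the semidihedral case with both kinds of essential subgroups the order is `16` -/
theorem qd_small [Finite S] {R : Type*} [CommRing R] {m : ℕ} {q ε r : R} (h : MC R m q ε)
    (T : Tab S (mcσ ε)) {G : Type*} [Group G] [Finite G] {P : Subgroup G} (T' : Tab P (mcσ ε))
    (hF : F.IsSaturated 2) (hmin : HMin F) (hn : NT F (T.ext (h.good4 1))) (hr : q = 4 * r) : False := by
  have hS := h.isPGroup T
  obtain ⟨F', t⟩ := T.exists_transp T' F
  obtain ⟨f', k, hf', e'⟩ := nt_move h T' (T.img_ext T' _ ▸ (t.nt_iff (T.ext_le _)).2 hn)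
  have hf := t.map' hf'
  rw [T'.img_ext T] at hf
  set f := T'.mv T ∘ f' ∘ T.mv T'
  have e : f (T.a q) = T.b k := by simp [f, e']
  have hqm : T.a q ∈ T.ext (h.good4 1) := T.a_mem_ext _ |>.2 (mem_tor.2 h.four_q)
  have hz : f (T.a (2 * q)) = T.a (2 * q) := by
    have e1 : orderOf (T.b k) = 4 := by
      rw [← e, hf.homOn.orderOf_eq hf.injOn hqm, h.orderOf_v]
    rw [two_mul q, ← T.aa, hf.homOn hqm hqm, e, T.bb, T.aa, mcσ_apply]
    congr 1
    linear_combination (h.orderOf_b_four T).1 e1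
  have hU : S ≤ normalizer (zpowers (T.a (2 * q)) : Set Ω) := fun s hs =>
    centralizer_le_normalizer _ fun x hx => by
      obtain ⟨n, rfl⟩ := mem_zpowers_iff.1 hx
      exact ((h.commute_z T hs).zpow_right n).eq.symm
  have hle := zpowers_le.2 (T.a_mem (2 * q))
  have hfn := isFullyNormalized_of_le_normalizer F hle hU
  obtain ⟨E, hE⟩ := S5096.result F _ hle
  have hSN : S ≤ normalizerIn S (zpowers (T.a (2 * q))) := le_inf le_rfl hU
  have : Finite (normalizerIn S (zpowers (T.a (2 * q)))) := L.finite_of_le (normalizerIn_le _ _)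
  have hs := ((hE.isSaturated hF hS hfn).isSolvableSystem_iff (hS.to_le (normalizerIn_le _ _))).1
    (hmin _ (fun e => by
      have := h.orderOf_z T
      rw [zpowers_eq_bot.1 e, orderOf_one] at this
      omega) hfn E hE)
  have hzQ : zpowers (T.a (2 * q)) ≤ T.ext (h.good4 1) := zpowers_le.2 (T.a_mem_ext _ |>.2
    (mem_tor.2 (by linear_combination 2 * h.four_q)))
  have hEf : E.IsMap (T.ext (h.good4 1)) f := (isNormalizerSystem_iff.1 hE _ _).2
    ⟨(T.ext_le _).trans hSN, f, by rwa [sup_eq_left.2 hzQ], fun _ _ => rfl, by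
      rw [(hf.homOn.mono hzQ).img_zpowers, hz]⟩
  have key : ∀ B, E.SolvUp B → T.a q ∉ B := fun B hB => by
    induction hB with
    | bot =>
      intro e
      have := h.orderOf_v T
      rw [mem_bot.1 e, orderOf_one] at this
      omega
    | @step A B _ h1 _ h3 ih =>
      intro hB
      have hb : T.b k ∈ B := e ▸ h1.mem hEf hqm hB
      have h2 : T.a 2 ∈ B := h.ext_E_le T (hSN.trans h1.le_normalizer) hb (l := k) (by simp)
        (T.a_mem_ext _ |>.2 (mem_tor.2 (by linear_combination h.four_q)))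
      have h4 := h3 (commutator_mem_commutator h2 hb)
      rw [commutatorElement_def, T.conj_ab, T.b_mul_b_inv, mcσ_apply] at h4
      obtain ⟨n, hn⟩ := mem_zpowers_iff.1 (T.zpowers_a 4 ▸ T.a_mem_sub.2
        (h.mem_zmultiples.2 ⟨r, hr.trans (mul_comm _ _)⟩) : T.a q ∈ zpowers (T.a 4))
      refine ih (hn ▸ zpow_mem ?_ n)
      convert h4 using 2
      linear_combination h.two_eps
  exact key _ hs (hSN (T.a_mem _))

/-- slice G1 -/
theorem g1 [Finite S] (hS : IsPGroup 2 S) (hF : F.IsSaturated 2) (hmin : HMin F) {V : Subgroup Ω}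
    (hV : V ≤ S) (h4 : IsKleinFour V) (hC : S ⊓ centralizer (V : Set Ω) ≤ V) (h16 : 16 ≤ Nat.card S)
    (hn : NT F V) : Concl F := by
  have h4' : IsKleinFour (V.subgroupOf S) := by
    have e := subgroupOfEquivOfLe hV
    exact ⟨(Nat.card_congr e.toEquiv).trans h4.card_four,
      (Monoid.exponent_eq_of_mulEquiv e).trans h4.exponent_two⟩
  rcases maxCl_of_four hS h4' (fun x hx => hC ⟨x.2, fun v hv =>
    congrArg Subtype.val (hx ⟨v, hV hv⟩ hv)⟩) (by omega) with ⟨n, hn2, ⟨e⟩⟩ | hqd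
  · have hc : Nat.card S = 2 * n := (Nat.card_congr e.toEquiv).trans DihedralGroup.nat_card
    rcases tab_of_dihedral hS hn2 e with h | ⟨m, ⟨T⟩⟩
    · have := h.card_four
      omega
    obtain ⟨l, -, rfl⟩ := (mc_d m).eq_ext_of_isKleinFour T hV h4
    obtain ⟨t, _, ht, h | h⟩ := real_d' T hF hn
    all_goals
      obtain ⟨ι, h1, h2⟩ := realBy_equiv h (MulEquiv.ulift.{_, u}).symm
      refine ⟨_, _, inferInstance, ι, h1, h2, Or.inl ⟨⟨n, by omega, ⟨e⟩⟩, ZMod (t + 1), inferInstance,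
        inferInstance, by rw [card_zmod_succ, Nat.odd_iff]; omega, ?_⟩⟩
    exacts [Or.inl ⟨MulEquiv.ulift⟩, Or.inr ⟨MulEquiv.ulift⟩]
  obtain ⟨m, ⟨T⟩⟩ := tab_of_qd hqd
  have h := mc_qd m
  obtain ⟨l, hl, rfl⟩ := h.eq_ext_of_isKleinFour T hV h4
  have h0 : NT F (T.ext (h.good2 0)) := (h.nt_congr T _ _ (by linear_combination hl)).1 hn
  by_cases h1 : NT F (T.ext (h.good4 1))
  · obtain rfl : m = 0 := by
      by_contra hm
      obtain ⟨m, rfl⟩ := Nat.exists_eq_succ_of_ne_zero hm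
      obtain ⟨G, _, _, P, T', -⟩ := exists_grp_qd_central (m + 1)
      exact qd_small h T T' hF hmin h1 (r := 2 ^ m) (by rw [Nat.succ_eq_add_one]; ring)
    have : Fact (Nat.Prime 3) := ⟨Nat.prime_three⟩
    obtain ⟨Q⟩ : Nonempty (Sylow 2 PSL(3, ZMod 3)) := inferInstance
    obtain ⟨T₂⟩ := tab_PSL3_qd (m := 0) (card_zmod_succ 2) ⟨1, odd_one, rfl⟩ Q
    have hT := h.both_of_no_index_two Q T₂ rfl (PSL3_no_index_two (by rw [card_zmod_succ]))
    obtain ⟨ι, h1, h2⟩ := realBy_equiv (h.realBy T hF Q T₂ (iff_of_true h0 hT.1)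
      (fun e => absurd e h.two_q_ne) fun _ => iff_of_true h1 hT.2) (MulEquiv.ulift.{_, u}).symm
    exact ⟨_, _, inferInstance, ι, h1, h2, Or.inr (Or.inr (Or.inl ⟨hqd, h.card_eq T, ⟨MulEquiv.ulift⟩⟩))⟩
  obtain ⟨t, ht, ht'⟩ := exists_prime_sub (m + 1)
  have := Fact.mk ht
  let K := GaloisField (t + 1) 2
  let _ : Fintype K := Fintype.ofFinite K
  have hK : Fintype.card K = (t + 1) ^ 2 := by
    rw [← Nat.card_eq_fintype_card]; exact GaloisField.card (t + 1) 2 two_ne_zero
  obtain ⟨σ, hσ⟩ := H4.exists_frob hK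
  obtain ⟨v, ⟨k, rfl⟩, hv⟩ := id ht'
  have h3 := Nat.one_le_two_pow (n := m + 1)
  have ht2 : 2 ∣ t := (dvd_pow_self 2 (by omega)).trans ht'.dvd
  obtain ⟨P, T', hT⟩ := exists_tw_pgl (t := t * (t + 2)) (m := m + 1) (r := t + 1)
    (j := 2 ^ (m + 1) - 1)
    (hK.trans (by ring)) (ht'.mul ht'.add_two) σ
    (fun x => by rw [hσ, hσ, ← pow_mul, ← pow_two, ← hK, FiniteField.pow_card]) hσ
    (by rw [add_comm]; exact ht'.add_two)
    ⟨2 ^ m * (2 * k + 1) - k, by
      have : k ≤ 2 ^ m * (2 * k + 1) := by nlinarith [Nat.one_le_two_pow (n := m)]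
      zify [this, h3] at hv ⊢
      rw [hv]; ring⟩ h (by
      rw [show 2 * (2 ^ (m + 1) - 1) + 1 = 2 * 2 ^ (m + 1) - 1 by omega,
        Nat.cast_sub (by omega)]; push_cast; rfl) (ht2 := ht2.mul_right _)
  have h5 : ¬ OddTriv (T'.ext (h.good2 0)) := fun e =>
    hT (h.oddTriv_T_all P T' rfl (mul_zero _) e)
  obtain ⟨ι, i1, i2⟩ := realBy_equiv (h.realBy T hF P T' (iff_of_true h0 h5)
    (fun e => absurd e h.two_q_ne) fun _ => iff_of_false h1 fun e =>
      h.no_index_two_of_both P T' rfl h5 e _ Tw.index_range) (MulEquiv.ulift.{_, u}).symm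
  refine ⟨_, _, inferInstance, ι, i1, i2, Or.inr (Or.inl ⟨hqd, K, inferInstance, inferInstance, t + 1,
    by rw [Nat.odd_iff]; omega, hK, (Tw.incl _).range.comap MulEquiv.ulift.toMonoidHom, ?_, ?_, ?_, ?_⟩)⟩
  · exact (normal_of_index_eq_two Tw.index_range).comap _
  · rw [index_comap_of_surjective _ MulEquiv.ulift.surjective, Tw.index_range]
  · refine eq_bot_iff.2 fun g hg => ?_
    exact ULift.ext _ _ (mem_bot.1 ((centralizer_tw _ _ σ _).le fun x hx =>
      congrArg ULift.down (hg ⟨x⟩ hx)))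
  · exact ⟨((MulEquiv.ulift.subgroupMap _).trans (MulEquiv.subgroupCongr
      (map_comap_eq_self_of_surjective MulEquiv.ulift.surjective _))).trans
      ((MonoidHom.ofInjective Tw.incl_injective).symm.trans ((MulEquiv.subgroupCongr range_toPGL.symm).trans
        (MonoidHom.ofInjective ProjectiveSpecialLinearGroup.toPGL_injective).symm))⟩

end Cfsg.Agent.Pu
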