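import Cfsg.Agent.Pu.I
import Cfsg.Agent.Pu.D0
import Cfsg.Agent.H7.More
import Cfsg.Agent.H6.FusEq

/-! Interface for S5175 (pushing up), fusion theoretic part. See `notes/pu.md`. -/

set_option autoImplicit false

universe u

namespace Cfsg.Agent.Pu

open Subgroup Cfsg Cfsg.Agent.H1 Cfsg.Agent.L Cfsg.Agent.FT Cfsg.Agent.Sg Cfsg.Agent.St Equiv
open scoped Pointwise commutatorElement

section
variable {Ω : Type u} [Group Ω] {S : Subgroup Ω}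

/-- a series of `N_S(U)` with abelian factors, strongly closed in `N_F(U)` -/
def SerN (F : FusionSystem S) (U : Subgroup Ω) : Prop :=
  ∃ (n : ℕ) (C : ℕ → Subgroup Ω), C 0 = ⊥ ∧ C n = S ⊓ 𝐍(U) ∧ (∀ i, C i ≤ S ⊓ 𝐍(U)) ∧
    (∀ i, ⁅C (i + 1), C (i + 1)⁆ ≤ C i) ∧
    ∀ i P f, F.NMap U P f → ∀ x ∈ P, x ∈ C i → f x ∈ C i

/-- the elements of `V` centralised by `L ≤ Hol V` -/
def fixV (V : Subgroup Ω) (L : Subgroup (Hol V)) : Subgroup Ω :=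
  ((𝐂(L)).comap (SemidirectProduct.inl : V →* Hol V)).map V.subtype

/-- the configuration produced by the pushing up theorem -/
structure Dat (F : FusionSystem S) (T V₁ V₂ : Subgroup Ω) (t : Ω) (q : ℕ)
    (ℓ : Set (Subgroup (Hol V₁))) (L : Subgroup (Hol V₁)) : Prop where
  sat : F.IsSaturated 2
  two : IsPGroup 2 S
  tS : t ∈ S
  tT : t ∈ 𝐍(T)
  sw : t ⋆ V₁ = V₂
  ne : V₁ ≠ V₂
  nV : S ⊓ 𝐍(V₁) = T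
  fn : F.IsFullyNormalized V₁
  cen : S ⊓ 𝐂(V₁) ≤ V₁
  ea : ∀ A, MaxEA T A ↔ A = V₁ ∨ A = V₂
  line : Line (inV V₁) q ℓ L
  mem : act V₁ V₂ ∈ ℓ
  LF : L ≤ inA V₁ (F.autGroup V₁)
  cA : ∀ c ∈ T, (∀ v ∈ V₂, ⁅c, v⁆ ∈ V₁) → c ∈ V₁ ⊔ V₂

/-- `S = V₁ V₂ ⟨t⟩`, not of maximal class -/
structure Dat2 (F : FusionSystem S) (T V₁ V₂ : Subgroup Ω) (t : Ω) (q : ℕ)
    (ℓ : Set (Subgroup (Hol V₁))) (L : Subgroup (Hol V₁)) : Prop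
    extends Dat F T V₁ V₂ t q ℓ L where
  eT : T = V₁ ⊔ V₂
  eS : S = T ⊔ zpowers t
  tt : t * t ∈ V₁ ⊓ V₂
  dd : fixV V₁ L ⊓ t ⋆ fixV V₁ L = ⊥
  dq : fixV V₁ L = ⊥ ∧ 4 ≤ q ∨ #|fixV V₁ L| = q

/-- no exceptional essential subgroups -/
def NE (F : FusionSystem S) (T V₁ V₂ : Subgroup Ω) : Prop :=
  ∀ E, F.IsEssential 2 E → E = V₁ ∨ E = V₂ ∨ E = T

/-- `E` is the exceptional subgroup `C_S(t mod Z)`, and `E ⊓ T` is not `Aut_F(E)`-invariant -/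
def Exc (F : FusionSystem S) (T Z : Subgroup Ω) (t : Ω) (E : Subgroup Ω) : Prop :=
  #|Z| = 4 ∧ t ∉ 𝐂(Z) ∧ (∀ x, x ∈ E ↔ x ∈ S ∧ ⁅x, t⁆ ∈ Z) ∧
    ∃ σ, F.Iso E E σ ∧ ∃ x ∈ E ⊓ T, σ x ∉ T

/-- coordinates on `T` and the automorphism groups of `T`, `S`, `V₁`. `W = 1` for type `L₃`. -/
structure Crd (F : FusionSystem S) (T V₁ V₂ : Subgroup Ω) (K : Type) [Field K] where
  Y : K → Ω
  U : K → Ω
  X : K → Ω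
  W : K → Ω
  t : Ω
  φ : K ≃+* K
  Λ : Set (Kˣ × Kˣ × (K ≃+* K))
  w : Perm Ω
  Y_add : ∀ a b, Y (a + b) = Y a * Y b
  U_add : ∀ a b, U (a + b) = U a * U b
  X_add : ∀ a b, X (a + b) = X a * X b
  W_add : ∀ a b, W (a + b) = W a * W b
  X_cent : ∀ a, X a ∈ 𝐂(T)
  W_cent : ∀ a, W a ∈ 𝐂(T)
  comm : ∀ y u, ⁅Y y, U u⁆ = X (y * u) * W (y ^ 2 * u)
  inj : ∀ y u x z, Y y * U u * X x * W z = 1 → y = 0 ∧ u = 0 ∧ x = 0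
  mem_T : ∀ g, g ∈ T ↔ ∃ y u x z, g = Y y * U u * X x * W z
  mem_V₁ : ∀ g, g ∈ V₁ ↔ ∃ y x z, g = Y y * X x * W z
  mem_V₂ : ∀ g, g ∈ V₂ ↔ ∃ u x z, g = U u * X x * W z
  tS : t ∈ S
  tT : t ∉ T
  tt : t * t = 1
  tY : ∀ y, t * Y y * t = U (φ y)
  one : (1, 1, 1) ∈ Λ
  mul : ∀ l ∈ Λ, ∀ m ∈ Λ,
    (l.1 * Units.map (l.2.2 : K →* K) m.1, l.2.1 * Units.map (l.2.2 : K →* K) m.2.1,
      l.2.2 * m.2.2) ∈ Λ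
  odd : ∀ l ∈ Λ, Odd (orderOf l.2.2)
  tor : ∀ c : Kˣ, (c⁻¹, c ^ 2, 1) ∈ Λ
  tw : ∀ l ∈ Λ, (Units.map (φ.symm : K →* K) l.2.1, Units.map (φ : K →* K) l.1, l.2.2) ∈ Λ
  autT : ∀ σ, F.Iso T T σ → ∃ s ∈ S, ∃ l ∈ Λ, ∀ a,
    σ (Y a) = s * Y (l.1 * l.2.2 a) * s⁻¹ ∧ σ (U a) = s * U (l.2.1 * l.2.2 a) * s⁻¹
  lamT : ∀ l ∈ Λ, ∃ σ, F.Iso T T σ ∧ ∀ a, σ (Y a) = Y (l.1 * l.2.2 a) ∧ σ (U a) = U (l.2.1 * l.2.2 a)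
  autS : ∀ σ, F.Iso S S σ → ∃ s ∈ S, ∃ l ∈ Λ, (l.2.1 : K) = φ l.1 ∧ σ t = s * t * s⁻¹ ∧ ∀ a,
    σ (Y a) = s * Y (l.1 * l.2.2 a) * s⁻¹ ∧ σ (U a) = s * U (l.2.1 * l.2.2 a) * s⁻¹
  lamS : ∀ l ∈ Λ, (l.2.1 : K) = φ l.1 → ∃ σ, F.Iso S S σ ∧ σ t = t ∧
    ∀ a, σ (Y a) = Y (l.1 * l.2.2 a) ∧ σ (U a) = U (l.2.1 * l.2.2 a)
  wF : F.Iso V₁ V₁ w
  wY : ∀ a, w (Y a) = X a ∧ w (X a) = Y a ∧ w (W a) = W a

/-- type `L₃(q)` -/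
structure Crd.L3 {F : FusionSystem S} {T V₁ V₂ : Subgroup Ω} {K : Type} [Field K]
    (c : Crd F T V₁ V₂ K) : Prop where
  W : ∀ a, c.W a = 1
  φφ : ∀ a, c.φ (c.φ a) = a
  tX : ∀ a, c.t * c.X a * c.t = c.X (c.φ a)

/-- type `Sp₄(q)` -/
structure Crd.S4 {F : FusionSystem S} {T V₁ V₂ : Subgroup Ω} {K : Type} [Field K]
    (c : Crd F T V₁ V₂ K) : Prop where
  W : ∀ x z, c.X x * c.W z = 1 → z = 0
  φφ : ∀ a, c.φ (c.φ a) = a ^ 2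
  tX : ∀ a, c.t * c.X a * c.t = c.W (c.φ a)

end

/-- slice SN (helper7): solvability of all local subsystems, as series -/
class SN : Prop where
  ser : ∀ {Ω : Type u} [Group Ω] [Finite Ω] {S : Subgroup Ω} {F : FusionSystem S},
    F.IsSaturated 2 → IsPGroup 2 S → HMin F → ∀ U ≤ S, U ≠ ⊥ → SerN F U

/-- slice TB -/
class TB : Prop where
  main : ∀ {Ω : Type u} [Group Ω] [Finite Ω] {S : Subgroup Ω} {F : FusionSystem S}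
    {T V₁ V₂ : Subgroup Ω} {t : Ω} {q : ℕ} {ℓ : Set (Subgroup (Hol V₁))} {L : Subgroup (Hol V₁)},
    Dat F T V₁ V₂ t q ℓ L → (∀ U ≤ S, U ≠ ⊥ → SerN F U) →
    (IsKleinFour V₁ ∧ 16 ≤ #|S| ∧ H6.NT F V₁) ∨ ∃ t', Dat2 F T V₁ V₂ t' q ℓ L

/-- slice CO -/
class CO : Prop where
  main : ∀ {Ω : Type u} [Group Ω] [Finite Ω] {S : Subgroup Ω} {F : FusionSystem S}
    {T V₁ V₂ : Subgroup Ω} {t : Ω} {q : ℕ} {ℓ : Set (Subgroup (Hol V₁))} {L : Subgroup (Hol V₁)},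
    Dat2 F T V₁ V₂ t q ℓ L → 4 ≤ q →
    ∃ (K : Type) (_ : Field K) (_ : Fintype K) (_ : CharP K 2) (c : Crd F T V₁ V₂ K),
      Fintype.card K = q ∧ Dat2 F T V₁ V₂ c.t q ℓ L ∧ (c.L3 ∨ c.S4)

/-- slice ES: essential subgroups -/
class ES : Prop where
  main : ∀ {Ω : Type u} [Group Ω] [Finite Ω] {S : Subgroup Ω} {F : FusionSystem S}
    {T V₁ V₂ : Subgroup Ω} {t : Ω} {q : ℕ} {ℓ : Set (Subgroup (Hol V₁))} {L : Subgroup (Hol V₁)},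
    Dat2 F T V₁ V₂ t q ℓ L →
    (t ∈ 𝐂((V₁ ⊓ V₂ : Subgroup Ω)) ∨
      ∀ z ∈ V₁ ⊓ V₂, t * z = z * t → ∃ y ∈ V₁ ⊓ V₂, z = ⁅y, t⁆) →
    ∀ E, F.IsEssential 2 E → E = V₁ ∨ E = V₂ ∨ E = T ∨ Exc F T (V₁ ⊓ V₂) t E

/-- slice UQ: comparison of two systems over the same group -/
class UQ : Prop where
  trans : ∀ {Ω : Type u} [Group Ω] [Finite Ω] {S : Subgroup Ω} {F F' : FusionSystem S}
    {T V₁ V₂ : Subgroup Ω} {t : Ω} {q : ℕ} {ℓ : Set (Subgroup (Hol V₁))} {L : Subgroup (Hol V₁)}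
    {w : Perm Ω}, Dat2 F T V₁ V₂ t q ℓ L → F'.IsSaturated 2 → F.Iso V₁ V₁ w → F'.Iso V₁ V₁ w →
    (∃ z ∈ V₁ ⊓ V₂, w z ∉ V₂) → Dat2 F' T V₁ V₂ t q ℓ L
  le : ∀ {Ω : Type u} [Group Ω] [Finite Ω] {S : Subgroup Ω} {F F' : FusionSystem S}
    {T V₁ V₂ : Subgroup Ω} {t : Ω} {q : ℕ} {ℓ : Set (Subgroup (Hol V₁))} {L : Subgroup (Hol V₁)},
    Dat2 F T V₁ V₂ t q ℓ L → Dat2 F' T V₁ V₂ t q ℓ L →
    (∀ σ, F.Iso T T σ → F'.IsMap T σ) → (∀ σ, F.Iso S S σ → F'.IsMap S σ) →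
    (∀ E, F.IsEssential 2 E → E = V₁ ∨ E = V₂ ∨ E = T ∨ ∀ σ, F.Iso E E σ → F'.IsMap E σ) →
    F ≤ F'

/-- slice G1: maximal class -/
class G1 : Prop where
  main : ∀ {Ω : Type u} [Group Ω] [Finite Ω] {S : Subgroup Ω} {F : FusionSystem S}
    {V : Subgroup Ω}, IsPGroup 2 S → F.IsSaturated 2 → F.core = ⊥ → HMin F → V ≤ S →
    IsKleinFour V → S ⊓ 𝐂(V) ≤ V → 16 ≤ #|S| → H6.NT F V → Concl F

/-- slice G2: order `32` -/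
class G2 : Prop where
  main : ∀ {Ω : Type u} [Group Ω] [Finite Ω] {S : Subgroup Ω} {F : FusionSystem S}
    {T V₁ V₂ : Subgroup Ω} {t : Ω} {ℓ : Set (Subgroup (Hol V₁))} {L : Subgroup (Hol V₁)},
    Dat2 F T V₁ V₂ t 2 ℓ L → Concl F

/-- slice G3: `J₃` -/
class G3 : Prop where
  main : ∀ {Ω : Type u} [Group Ω] [Finite Ω] {S : Subgroup Ω} {F : FusionSystem S}
    {T V₁ V₂ : Subgroup Ω} {ℓ : Set (Subgroup (Hol V₁))} {L : Subgroup (Hol V₁)}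
    {K : Type} [Field K] [Fintype K] [CharP K 2] (c : Crd F T V₁ V₂ K) {E : Subgroup Ω},
    Fintype.card K = 4 → Dat2 F T V₁ V₂ c.t 4 ℓ L → c.L3 → F.IsEssential 2 E →
    Exc F T (V₁ ⊓ V₂) c.t E → Concl F

/-- slice G4: extensions of `L₃(q)` -/
class G4 : Prop where
  main : ∀ {Ω : Type u} [Group Ω] [Finite Ω] {S : Subgroup Ω} {F : FusionSystem S}
    {T V₁ V₂ : Subgroup Ω} {q : ℕ} {ℓ : Set (Subgroup (Hol V₁))} {L : Subgroup (Hol V₁)}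
    {K : Type} [Field K] [Fintype K] [CharP K 2] (c : Crd F T V₁ V₂ K), 4 ≤ q →
    Fintype.card K = q → Dat2 F T V₁ V₂ c.t q ℓ L → c.L3 → NE F T V₁ V₂ → Concl F

/-- slice G5: extensions of `Sp₄(q)` -/
class G5 : Prop where
  main : ∀ {Ω : Type u} [Group Ω] [Finite Ω] {S : Subgroup Ω} {F : FusionSystem S}
    {T V₁ V₂ : Subgroup Ω} {q : ℕ} {ℓ : Set (Subgroup (Hol V₁))} {L : Subgroup (Hol V₁)}
    {K : Type} [Field K] [Fintype K] [CharP K 2] (c : Crd F T V₁ V₂ K), 4 ≤ q →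
    Fintype.card K = q → Dat2 F T V₁ V₂ c.t q ℓ L → c.S4 → NE F T V₁ V₂ → Concl F

end Cfsg.Agent.Pu
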