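import Cfsg.Agent.Pu.D1
import Cfsg.Agent.Pu.J

set_option autoImplicit false

universe u

namespace Cfsg.Agent.Pu

instance instG1 : G1.{u} :=
  ⟨fun hS hF _ hmin hV h4 hC h16 hn => g1 hS hF hmin hV h4 hC h16 hn⟩

end Cfsg.Agent.Pu
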