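import Cfsg.Agent.Pu.J

/-! S5175, slice ES: tools for essential subgroups and the group `S`. -/

set_option autoImplicit false
set_option linter.unusedSectionVars false

universe u

namespace Cfsg.Agent.Pu

open Subgroup Cfsg.Fus Cfsg.Agent.FT Cfsg.Agent.Sg Equiv
open Cfsg.FusionSystem hiding inv_mem
open scoped commutatorElement

variable {Ω : Type u} [Group Ω] {S T V₁ V₂ E A B W H C : Subgroup Ω} {F : FusionSystem S}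
  {a b g s t v w x y z : Ω}

theorem cm_mul (h : ∀ k ∈ C, a * k * a⁻¹ ∈ C) (h1 : ⁅a, y⁆ ∈ C) (h2 : ⁅b, y⁆ ∈ C) : ⁅a * b, y⁆ ∈ C := by
  have := mul_mem (h _ h2) h1
  simpa [commutatorElement_def, mul_assoc] using this

theorem cm_symm (h : ⁅a, b⁆ ∈ C) : ⁅b, a⁆ ∈ C := commutatorElement_inv a b ▸ inv_mem h

theorem cm_mv (h : ⁅x⁻¹, g⁆ ∈ C) : x⁻¹ * (g * x * g⁻¹) ∈ C := by
  simpa [commutatorElement_def, mul_assoc] using h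

theorem hom_cm {f : Ω → Ω} (h : HomOn f E) (hx : x ∈ E) (hy : y ∈ E) : f ⁅x, y⁆ = ⁅f x, f y⁆ :=
  h.map_commutator hx hy

/-- invariance under `Aut_F(E)` -/
def Iv (F : FusionSystem S) (E A : Subgroup Ω) : Prop := ∀ τ, F.Iso E E τ → ∀ x ∈ A, τ x ∈ A

section
variable [Finite S]

theorem ess_r3 (hS : IsPGroup 2 S) (hE : F.IsEssential 2 E) (hA : A ≤ E) (hB : B ≤ E) (iA : Iv F E A)
    (iB : Iv F E B) (hg : g ∈ S) (h0 : ∀ x ∈ A, x * g = g * x) (h1 : ∀ x ∈ B, ⁅x, g⁆ ∈ A)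
    (h2 : ∀ x ∈ E, ⁅x, g⁆ ∈ B) : g ∈ E := by
  haveI : Fact (Nat.Prime 2) := ⟨Nat.prime_two⟩
  haveI := finite_of_le hE.le
  have hn : g ∈ 𝐍(E) := mem_normalizer_of_finite fun x hx =>
    (mul_mem_cancel_left (inv_mem hx)).1 (hB (cm_mv (h2 _ (inv_mem hx))))
  refine hE.isCentric.mem_of_cj_mem_opStab (hE.isRadical hS) hg ((F.iso_cj hE.le hg hn).mem_opStab_of_chain
    hS (C := fun i => match i with | 0 => ⊥ | 1 => A | 2 => B | _ => E) (n := 3) ?_ rfl rfl ?_ ?_)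
  · rintro (_ | _ | _ | _) -
    exacts [bot_le, hA, hB, le_rfl]
  · rintro τ hτ (_ | _ | _ | _) - x hx
    exacts [by rw [mem_bot.1 hx, hτ.homOn.map_one]; exact one_mem _, iA τ hτ x hx, iB τ hτ x hx, hτ.mem hx]
  · rintro (_ | _ | _ | _) hi x hx
    exacts [by simp [← h0 x hx], cm_mv (h1 _ (inv_mem hx)), cm_mv (h2 _ (inv_mem hx)), by omega]

theorem ess_r2 (hS : IsPGroup 2 S) (hE : F.IsEssential 2 E) (hA : A ≤ E) (iA : Iv F E A) (hg : g ∈ S)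
    (h0 : ∀ x ∈ A, x * g = g * x) (h2 : ∀ x ∈ E, ⁅x, g⁆ ∈ A) : g ∈ E :=
  ess_r3 hS hE hA hA iA iA hg h0 (fun x hx => h2 x (hA hx)) h2

theorem ess_cent (hE : F.IsEssential 2 E) (hg : g ∈ S) (h0 : ∀ x ∈ E, x * g = g * x) : g ∈ E :=
  hE.isCentric.centralizerIn_le ⟨hg, h0⟩

/-- no four-group of transvections with a common axis -/
theorem ess_tv (hS : IsPGroup 2 S) (hE : F.IsEssential 2 E) (hW : W ≤ E) (iW : Iv F E W) (hH : H ≤ W)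
    (ix : ∀ a ∈ W, ∀ b ∈ W, a ∉ H → b ∉ H → a * b ∈ H) (hx : x ∈ S) (hy : y ∈ S)
    (x1 : ∀ e ∈ E, ⁅e, x⁆ ∈ W) (y1 : ∀ e ∈ E, ⁅e, y⁆ ∈ W) (x2 : ∀ e ∈ H, e * x = x * e)
    (y2 : ∀ e ∈ H, e * y = y * e) : x ∈ E ∨ y ∈ E ∨ x * y ∈ E := by
  haveI : Fact (Nat.Prime 2) := ⟨Nat.prime_two⟩
  haveI := finite_of_le hE.le
  haveI := finite_of_le hW
  by_contra hc
  push Not at hc
  obtain ⟨Y, hY, hY'⟩ := hE.exists_strEmb hS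
  obtain ⟨γ, g1, g2⟩ := SetLike.exists_of_lt (hY.le.lt_of_ne hY.ne)
  have g3 := (mem_stab hE.le).1 g1
  obtain ⟨w, w1, w2⟩ : ∃ w ∈ W, w ∉ H := by
    by_contra h
    push Not at h
    exact hc.1 (ess_r2 hS hE hW iW hx (fun e he => x2 e (h e he)) x1)
  -- the three elements
  have base : ∀ a ∈ S, a ∉ E → (∀ e ∈ E, ⁅e, a⁆ ∈ W) → (∀ e ∈ H, e * a = a * e) →
      F.Iso E E (cj a) ∧ cj a ∈ Y ∧ cj a ∉ innS E E ∧ (∃ k, cj a ^ 2 ^ k ∈ innS E E) ∧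
      cj a ∈ trivOn W E ∧ w⁻¹ * (a * w * a⁻¹) ∈ H ∧
      ∀ e ∈ W, e⁻¹ * (a * e * a⁻¹) ∈ zpowers (w⁻¹ * (a * w * a⁻¹)) := fun a ha a0 a1 a2 => by
    have hn : a ∈ 𝐍(E) := mem_normalizer_of_finite fun x hx =>
      (mul_mem_cancel_left (inv_mem hx)).1 (hW (cm_mv (a1 _ (inv_mem hx))))
    have k1 := F.iso_cj hE.le ha hn
    obtain ⟨k, hk⟩ := hS ⟨a, ha⟩
    have k2 : w⁻¹ * (a * w * a⁻¹) ∈ H := ix _ (inv_mem w1) _ (iW _ k1 w w1) (by rwa [inv_mem_iff]) fun h => by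
      have := a2 _ h
      rw [inv_mul_cancel_right, mul_assoc, mul_right_inj, eq_comm] at this
      exact w2 (this ▸ (by simpa [mul_assoc] using h))
    refine ⟨k1, hY' (cj_mem_innS ha hn), fun h => a0 (hE.isCentric.mem_of_cj_mem_innS ha h),
      ⟨k, by rw [← map_pow, show a ^ 2 ^ k = 1 from congrArg Subtype.val hk, map_one]; exact one_mem _⟩,
      ⟨k1.mem_autStab, fun e he => cm_mv (a1 _ (inv_mem he))⟩, k2, fun e he => ?_⟩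
    by_cases h : e ∈ H
    · simp [← a2 e h]
    · have h1 := ix _ he _ (inv_mem w1) h (by rwa [inv_mem_iff])
      have h2 := a2 _ h1
      have : e⁻¹ * (a * e * a⁻¹) = w⁻¹ * (a * w * a⁻¹) := by
        calc _ = e⁻¹ * (a * (e * w⁻¹) * w * a⁻¹) := by group
          _ = _ := by rw [← h2]; group
      exact this ▸ mem_zpowers _
  obtain ⟨-, b1, b2, b3, b4, b5, b6⟩ := base x hx hc.1 x1 x2
  have fin : ∀ a ∈ S, a ∉ E → (∀ e ∈ E, ⁅e, a⁆ ∈ W) → (∀ e ∈ H, e * a = a * e) →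
      γ⁻¹ (w⁻¹ * (a * w * a⁻¹)) ∉ H := fun a ha a0 a1 a2 h => by
    obtain ⟨c0, c1, c2, c3, c4, c5, c6⟩ := base a ha a0 a1 a2
    set p := w⁻¹ * (a * w * a⁻¹)
    have hH' := g3.homOn.mono (hH.trans hW)
    have pH : p ∈ img γ H := hH'.mem_img_perm.2 h
    have HW : img γ H ≤ W := img_le_iff.2 fun e he => iW γ g3 e (hH he)
    have pW := (zpowers_le.2 pH).trans HW
    have r0 := g3.conj (base x hx hc.1 x1 x2).1
    have rf : γ * cj x * γ⁻¹ ∈ fixP (img γ H) := fun e he => by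
      have := hH'.mem_img_perm.1 he
      rw [Perm.mul_apply, Perm.mul_apply, cj_apply, ← x2 _ this, mul_inv_cancel_right, perm_apply_inv_self]
    have aut : ∀ σ, F.Iso E E σ → ∀ P ≤ W, (∀ e ∈ P, σ e ∈ P) → σ ∈ autStab P := fun σ hσ P hP h =>
      haveI := finite_of_le hP
      ⟨hσ.homOn.mono (hP.trans hW), mem_setStab_of_finite h⟩
    let U := F.stab E ⊓ fixP (zpowers p) ⊓ trivOn (zpowers p) (img γ H) ⊓ trivOn (img γ H) W ⊓ trivOn W E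
    have hU : IsPMod 2 (innS E E) U := fun σ ⟨⟨⟨⟨_, s1⟩, s2⟩, s3⟩, s4⟩ => by
      obtain ⟨k, hk⟩ := exists_pow_mem_fixP_of_chain hS (C := fun i => match i with
        | 0 => zpowers p | 1 => img γ H | 2 => W | _ => E) (n := 3) (σ := σ) (by
          rintro (_ | _ | _ | _) -
          exacts [pW.trans (hW.trans hE.le), HW.trans (hW.trans hE.le), hW.trans hE.le, hE.le])
        ⟨0, by simpa using s1⟩ (by
          rintro (_ | _ | _ | _) hi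
          exacts [s2, s3, s4, by omega])
      exact ⟨k, fixP_le_innS E E hk⟩
    have u1 : cj a ∈ U := ⟨⟨⟨⟨c0.mem_stab, fun e he => by simp [← a2 e (zpowers_le.2 c5 he)]⟩,
      aut _ c0 _ HW fun e he => (mul_mem_cancel_left (inv_mem he)).1 (zpowers_le.2 pH (c6 e (HW he))),
      fun e he => c6 e (HW he)⟩, aut _ c0 _ le_rfl (iW _ c0), fun e he => zpowers_le.2 pH (c6 e he)⟩, c4⟩
    have u2 : γ * cj x * γ⁻¹ ∈ U := by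
      refine ⟨⟨⟨⟨r0.mem_stab, fixP_anti (zpowers_le.2 pH) rf⟩, fixP_le_autStab _ rf, fun e he => by
        simp [rf e he]⟩, aut _ r0 _ le_rfl (iW _ r0), fun e he => ?_⟩,
        conj_mem_trivOn b4 g3.mem_autStab fun e he _ => iW γ g3 e he⟩
      have e1 := iW _ g3.symm e he
      have := mem_img_of_mem γ (zpowers_le.2 b5 (b6 _ e1))
      rwa [← cj_apply, g3.homOn.map_mul (inv_mem (hW e1)) (hW (iW _ (base x hx hc.1 x1 x2).1 _ e1)),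
        g3.homOn.map_inv (hW e1), perm_apply_inv_self] at this
    obtain ⟨V, v1, v2⟩ := hY.exists_sylMod (F.finMod_innS hE.le)
    obtain ⟨χ, k1, k2⟩ := v2.conj U (fun _ h => h.1.1.1.1) hU
    have k3 : ∀ σ ∈ U, χ * σ * χ⁻¹ ∈ Y := fun σ hσ => by
      obtain ⟨u, hu, hu'⟩ := k2 σ hσ
      simpa using Y.mul_mem (v1 hu) (hY.ge ⟨hu', (F.stab E).mul_mem (inv_mem (v2.le hu))
        ((F.stab E).mul_mem (mul_mem k1 hσ.1.1.1.1) (inv_mem k1))⟩)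
    have k4 := hY.mem _ c1 c2 c3 χ k1 (k3 _ u1)
    exact g2 (hY.mem _ b1 b2 b3 γ g1 (by
      simpa [mul_assoc] using mul_mem (mul_mem (inv_mem k4) (k3 _ u2)) k4))
  have y5 := (base y hy hc.2.1 y1 y2).2.2.2.2.2.1
  refine fin (x * y) (mul_mem hx hy) hc.2.2 (fun e he => cm_symm (cm_mul (iW _ (base x hx hc.1 x1 x2).1)
    (cm_symm (x1 e he)) (cm_symm (y1 e he)))) (fun e he => by rw [← mul_assoc, x2 e he, mul_assoc, y2 e he,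
      mul_assoc]) ?_
  have e : w⁻¹ * (x * y * w * (x * y)⁻¹) = w⁻¹ * (x * w * x⁻¹) * (w⁻¹ * (y * w * y⁻¹)) := by
    calc _ = w⁻¹ * (x * w * x⁻¹) * (x * (w⁻¹ * (y * w * y⁻¹)) * x⁻¹) := by group
      _ = _ := by rw [← x2 _ y5]; group
  rw [e, g3.symm.homOn.map_mul (hW (hH b5)) (hW (hH y5))]
  exact ix _ (iW _ g3.symm _ (hH b5)) _ (iW _ g3.symm _ (hH y5)) (fin x hx hc.1 x1 x2)
    (fin y hy hc.2.1 y1 y2)

end

/-- the structure of `S` -/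
structure Bs (S T V₁ V₂ : Subgroup Ω) : Prop where
  two : IsPGroup 2 S
  TS : T ≤ S
  l1 : V₁ ≤ T
  l2 : V₂ ≤ T
  eT : ∀ x ∈ T, ∃ v ∈ V₁, ∃ w ∈ V₂, x = v * w
  s1 : Sq V₁
  s2 : Sq V₂
  cm : ∀ v ∈ V₁, ∀ w ∈ V₂, ⁅v, w⁆ ∈ V₁ ⊓ V₂
  nc : ∀ v ∈ V₁, ∀ w ∈ V₂, v * w = w * v → v ∈ V₂ ∨ w ∈ V₁
  ne : ¬ V₁ ≤ V₂ ∧ ¬ V₂ ≤ V₁
  idx : ∀ a ∈ S, ∀ b ∈ S, a ∉ T → b ∉ T → a * b ∈ T
  sw : ∀ s ∈ S, s ∉ T → (∀ v ∈ V₁, s * v * s⁻¹ ∈ V₂) ∧ ∀ w ∈ V₂, s * w * s⁻¹ ∈ V₁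

theorem sq_cm (h : Sq A) (ha : a ∈ A) (hb : b ∈ A) : a * b = b * a := (h.cent ha b hb).symm

namespace Bs

variable (h : Bs S T V₁ V₂)
include h

theorem symm : Bs S T V₂ V₁ :=
  ⟨h.two, h.TS, h.l2, h.l1, fun x hx => by
    obtain ⟨v, hv, w, hw, e⟩ := h.eT _ (inv_mem hx)
    exact ⟨_, inv_mem hw, _, inv_mem hv, by rw [← mul_inv_rev, ← e, inv_inv]⟩, h.s2, h.s1,
    fun v hv w hw => cm_symm (inf_comm V₁ V₂ ▸ h.cm w hw v hv),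
    fun v hv w hw e => (h.nc w hw v hv e.symm).symm, h.ne.symm, h.idx, fun s a b => (h.sw s a b).symm⟩

theorem zT (hz : z ∈ V₁ ⊓ V₂) : z ∈ T := h.l1 hz.1

theorem zS (hz : z ∈ V₁ ⊓ V₂) : z ∈ S := h.TS (h.zT hz)

theorem zsq (hz : z ∈ V₁ ⊓ V₂) : z * z = 1 := h.s1 z hz.1

theorem zc (hz : z ∈ V₁ ⊓ V₂) (hx : x ∈ T) : z * x = x * z := by
  obtain ⟨v, hv, w, hw, rfl⟩ := h.eT x hx
  rw [← mul_assoc, sq_cm h.s1 hz.1 hv, mul_assoc, sq_cm h.s2 hz.2 hw, mul_assoc]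

theorem nZ (hs : s ∈ S) : ∀ z ∈ V₁ ⊓ V₂, s * z * s⁻¹ ∈ V₁ ⊓ V₂ := fun z hz => by
  by_cases h1 : s ∈ T
  · rwa [← h.zc hz h1, mul_inv_cancel_right]
  · exact ⟨(h.sw s hs h1).2 z hz.2, (h.sw s hs h1).1 z hz.1⟩

theorem cT (hx : x ∈ T) (hy : y ∈ T) : ⁅x, y⁆ ∈ V₁ ⊓ V₂ := by
  obtain ⟨v, hv, w, hw, rfl⟩ := h.eT x hx
  obtain ⟨v', hv', w', hw', rfl⟩ := h.eT y hy
  have one : ∀ {a b : Ω}, a * b = b * a → ⁅a, b⁆ ∈ V₁ ⊓ V₂ := fun e =>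
    commutatorElement_eq_one_iff_mul_comm.2 e ▸ one_mem _
  have n := h.nZ (h.TS (h.l1 hv'))
  exact cm_mul (h.nZ (h.TS (h.l1 hv))) (cm_symm (cm_mul n (one (sq_cm h.s1 hv' hv)) (cm_symm (h.cm v hv w' hw'))))
    (cm_symm (cm_mul n (h.cm v' hv' w hw) (one (sq_cm h.s2 hw' hw))))

theorem mulT (hs : s ∈ S) (hs' : s ∉ T) (hx : x ∈ T) : s * x ∉ T ∧ x * s ∉ T :=
  ⟨fun e => hs' ((mul_mem_cancel_right hx).1 e), fun e => hs' ((mul_mem_cancel_left hx).1 e)⟩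

theorem divT (ha : a ∈ S) (hb : b ∈ S) (a1 : a ∉ T) (b1 : b ∉ T) : a⁻¹ * b ∈ T ∧ a * b⁻¹ ∈ T :=
  ⟨h.idx _ (inv_mem ha) _ hb (by rwa [inv_mem_iff]) b1, h.idx _ ha _ (inv_mem hb) a1 (by rwa [inv_mem_iff])⟩

theorem nT (hs : s ∈ S) : ∀ x ∈ T, s * x * s⁻¹ ∈ T := fun x hx => by
  by_cases h1 : s ∈ T
  · exact mul_mem (mul_mem h1 hx) (inv_mem h1)
  · exact (h.divT (mul_mem hs (h.TS hx)) hs (h.mulT hs h1 hx).1 h1).2

theorem cST (ha : a ∈ S) (hb : b ∈ T) : ⁅a, b⁆ ∈ T := mul_mem (h.nT ha b hb) (inv_mem hb)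

theorem cS (ha : a ∈ S) (hb : b ∈ S) : ⁅a, b⁆ ∈ T := by
  by_cases b1 : b ∈ T
  · exact h.cST ha b1
  by_cases a1 : a ∈ T
  · exact cm_symm (h.cST hb a1)
  rw [commutatorElement_def, mul_assoc]
  exact mul_mem (h.idx a ha b hb a1 b1) (h.divT ha (inv_mem hb) a1 (by rwa [inv_mem_iff])).1

theorem cSZ (ha : a ∈ S) (hz : z ∈ V₁ ⊓ V₂) : ⁅a, z⁆ ∈ V₁ ⊓ V₂ := mul_mem (h.nZ ha z hz) (inv_mem hz)

theorem inv (hx : x ∈ T) (h2 : x * x = 1) : x ∈ V₁ ∨ x ∈ V₂ := by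
  obtain ⟨v, hv, w, hw, rfl⟩ := h.eT x hx
  have := inv_eq_of_mul_eq_one_right h2
  rw [mul_inv_rev, h.s1.inv hv, h.s2.inv hw] at this
  exact (h.nc v hv w hw this.symm).symm.imp (mul_mem hv) (mul_mem · hw)

theorem cent (hv : v ∈ V₁) (hv' : v ∉ V₂) (hx : x ∈ T) (e : x * v = v * x) : x ∈ V₁ := by
  obtain ⟨a, ha, w, hw, rfl⟩ := h.eT x hx
  rw [← mul_assoc, sq_cm h.s1 hv ha, mul_assoc, mul_assoc, mul_right_inj] at e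
  exact mul_mem ha ((h.nc v hv w hw e.symm).resolve_left hv')

theorem back (hs : s ∈ S) (hs' : s ∉ T) (hx : s * x * s⁻¹ ∈ V₁) : x ∈ V₂ := by
  simpa [mul_assoc] using (h.sw _ (inv_mem hs) (by rwa [inv_mem_iff])).1 _ hx

theorem inv_fix (hx : x ∈ T) (h2 : x * x = 1) (hs : s ∈ S) (hs' : s ∉ T)
    (e : x * (s * x * s⁻¹) = s * x * s⁻¹ * x) : x ∈ V₁ ⊓ V₂ := by
  rcases h.inv hx h2 with k | k
  · exact ⟨k, (h.nc _ k _ ((h.sw s hs hs').1 x k) e).elim id (h.back hs hs')⟩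
  · exact ⟨(h.symm.nc _ k _ ((h.sw s hs hs').2 x k) e).elim id (h.symm.back hs hs'), k⟩

theorem act (ha : a ∈ S) (hb : b ∈ S) (a1 : a ∉ T) (b1 : b ∉ T) (hz : z ∈ V₁ ⊓ V₂) :
    a * z * a⁻¹ = b * z * b⁻¹ := by
  have := h.zc hz (h.divT hb ha b1 a1).1
  calc _ = b * (b⁻¹ * a * z) * a⁻¹ := by group
    _ = _ := by rw [← this]; group

theorem actT (ha : a ∈ S) (hb : b ∈ S) (a1 : a ∉ T) (b1 : b ∉ T) (hx : x ∈ T) (e : ⁅x, a⁆ ∈ V₁ ⊓ V₂) :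
    ⁅x, b⁆ ∈ V₁ ⊓ V₂ := by
  have := cm_mul (h.nZ ha) (cm_symm e) (h.cT (h.divT ha hb a1 b1).1 hx)
  rw [mul_inv_cancel_left] at this
  exact cm_symm this

theorem del (hs : s ∈ S) (hs' : s ∉ T) (hx : x ∈ T) (e : ⁅x, s⁆ ∈ V₁ ⊓ V₂) :
    ∃ v ∈ V₁, ∃ z ∈ V₁ ⊓ V₂, x = v * (s * v * s⁻¹) * z := by
  obtain ⟨v, hv, w, hw, rfl⟩ := h.eT x hx
  have v' := (h.sw s hs hs').1 v hv
  refine ⟨v, hv, (s * v * s⁻¹)⁻¹ * w, mem_inf.2 ⟨?_, V₂.mul_mem (inv_mem v') hw⟩, by group⟩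
  have k := h.zc (inv_mem (cm_symm e)) (h.l2 v')
  have := V₁.mul_mem (V₁.mul_mem (V₁.mul_mem (cm_symm (h.cm _ (inv_mem hv) _ (inv_mem v'))).1 (inv_mem hv))
    (inv_mem (cm_symm e)).1) ((h.sw s hs hs').2 w hw)
  convert this using 1
  calc _ = (s * v * s⁻¹)⁻¹ * v⁻¹ * (⁅s, v * w⁆⁻¹ * (s * v * s⁻¹)) * (s * w * s⁻¹) := by
        rw [commutatorElement_def]; group
    _ = _ := by rw [k, commutatorElement_def (s * v * s⁻¹)⁻¹]; group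

end Bs

end Cfsg.Agent.Pu
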