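import Cfsg.Agent.St.U3
import Cfsg.Agent.R1.SC
import Cfsg.Agent.Sg.Gen

/-! Interface for S5175 (pushing up), group theoretic part. See `notes/pu.md`. -/

set_option autoImplicit false

universe u

namespace Cfsg.Agent.Pu

open Subgroup Cfsg Cfsg.Agent.H1 Cfsg.Agent.L Cfsg.Agent.FT Cfsg.Agent.Sg Cfsg.Agent.R1
  Cfsg.Agent.St
open scoped Pointwise commutatorElement

section
variable {G : Type*} [Group G]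

/-- `V` is a faithful `𝔽₂ H`-module inside `G` -/
structure Md (V H : Subgroup G) : Prop where
  nrm : V.Normal
  sq : Sq V
  faith : H ⊓ 𝐂(V) = ⊥

/-- a member: a quadratic exact offender of order `q` all of whose elements have the same
fixed points -/
structure Mem (V : Subgroup G) (q : ℕ) (A : Subgroup G) : Prop where
  sq : Sq A
  quad : ⁅V, A⁆ ≤ 𝐂(A)
  card : #|A| = q
  one_lt : 1 < q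
  idx : #|V| = q * #|V ⊓ 𝐂(A)|
  cent : ∀ a ∈ A, a ≠ 1 → V ⊓ 𝐂[a] ≤ 𝐂(A)

/-- a line: `L ≅ SL₂(q)`, `ℓ` its Sylow `2`-subgroups, `V / C_V(L)` the natural module -/
structure Line (V : Subgroup G) (q : ℕ) (ℓ : Set (Subgroup G)) (L : Subgroup G) : Prop where
  card : ℓ.ncard = q + 1
  mem : ∀ D ∈ ℓ, Mem V q D
  gen : ∀ D ∈ ℓ, ∀ E ∈ ℓ, D ≠ E → D ⊔ E = L
  span : ∀ D ∈ ℓ, ∀ E ∈ ℓ, D ≠ E → V ≤ V ⊓ 𝐂(D) ⊔ V ⊓ 𝐂(E)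
  inv : ∀ g ∈ L, ∀ D ∈ ℓ, g ⋆ D ∈ ℓ
  pure : ∀ D ∈ ℓ, ∀ a ∈ D, a ≠ 1 → ∀ v ∈ V, ⁅v, a⁆ ∈ 𝐂(L) → v ∈ 𝐂(D)
  faith : ∀ g ∈ L, (∀ v ∈ V, ⁅v, g⁆ ∈ 𝐂(L)) → g = 1

/-- no over-offenders in `H` -/
def F2 (V H : Subgroup G) : Prop := ∀ E ≤ H, Sq E → #|E| * #|V ⊓ 𝐂(E)| ≤ #|V|

/-- the situation produced by the L-lemma -/
structure QH (V L M A : Subgroup G) : Prop where
  md : Md V L
  le : A ≤ M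
  lt : M < L
  sq : Sq A
  quad : ⁅V, A⁆ ≤ 𝐂(A)
  best : ∀ B ≤ A, #|B| * #|V ⊓ 𝐂(B)| ≤ #|A| * #|V ⊓ 𝐂(A)|
  uniq : ∀ K, A ⊔ core {2} L ≤ K → K < L → K ≤ M
  self : L ⊓ 𝐍(M) ≤ M
  act : ∃ g ∈ L, Odd (orderOf g) ∧ g ∉ 𝐂(V ⊓ 𝐂(core {2} L))

/-- the conclusion of the first quadratic lemma; `D = A ⊓ O₂(L)`, `Y = C_V(O₂(L))` -/
structure QC (V L A : Subgroup G) (q : ℕ) : Prop where
  one_lt : 1 < q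
  card : #|A| = q * #|A ⊓ core {2} L|
  eq : #|V ⊓ 𝐂(A ⊓ core {2} L)| = q * #|V ⊓ 𝐂(A)|
  sup : V ⊓ 𝐂(A ⊓ core {2} L) ≤ V ⊓ 𝐂(core {2} L) ⊔ V ⊓ 𝐂(A)
  cent : ∀ a ∈ A, a ∉ core {2} L → V ⊓ 𝐂(core {2} L) ⊓ 𝐂[a] ≤ 𝐂(A)
  pure : ∀ a ∈ A, a ∉ core {2} L → ∀ v ∈ V ⊓ 𝐂(core {2} L), ⁅v, a⁆ ∈ 𝐂(L) → v ∈ 𝐂(A)

/-- a series of subgroups of `T`, strongly closed for `P`, with abelian factors -/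
def Ser (T P : Subgroup G) : Prop :=
  ∃ (n : ℕ) (C : ℕ → Subgroup G), C 0 = ⊥ ∧ C n = T ∧ (∀ i, C i ≤ T) ∧
    (∀ i, ⁅C (i + 1), C (i + 1)⁆ ≤ C i) ∧
    ∀ i, ∀ x ∈ C i, ∀ g ∈ P, g * x * g⁻¹ ∈ T → g * x * g⁻¹ ∈ C i

/-- `P` is a minimal parabolic over `T` with maximal subgroup `M` -/
structure MPi (P T M : Subgroup G) : Prop where
  syl : IsSylowIn 2 T P
  le : T ≤ M
  lt : M < P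
  min : ∀ K, T ≤ K → K < P → K ≤ M

/-- hypotheses of the `P(G,V)`-theorem -/
structure PGH (V H T M : Subgroup G) : Prop extends Md V H, MPi H T M where
  core : core {2} H = ⊥
  act : ¬ H ≤ 𝐂(V ⊓ 𝐂(T))
  sc : ∃ Z, Z ≠ ⊥ ∧ Z ≤ T ∧ SCI H Z
  off : ∃ E ≤ T, E ≠ ⊥ ∧ Sq E ∧ #|V| ≤ #|E| * #|V ⊓ 𝐂(E)|

/-- conclusion of the `P(G,V)`-theorem: `W = A × W₁` is generated by the offenders in `T` -/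
structure PGC (V H T M : Subgroup G) (q : ℕ) (A W₁ L : Subgroup G) (ℓ : Set (Subgroup G)) :
    Prop where
  f2 : F2 V H
  line : Line V q ℓ L
  mem : A ∈ ℓ
  LH : L ≤ H
  notM : ¬ L ≤ M
  le : A ⊔ W₁ ≤ T
  sq : Sq (A ⊔ W₁)
  quad : ⁅V, A ⊔ W₁⁆ ≤ 𝐂((A ⊔ W₁ : Subgroup G))
  disj : A ⊓ W₁ = ⊥
  nrm : T ≤ 𝐍((A ⊔ W₁ : Subgroup G))
  cL : W₁ ≤ 𝐂(L)
  cY : ⁅V, L⁆ ≤ 𝐂(W₁)
  gen : ∀ K, (∀ t ∈ T, t ⋆ A ≤ K) → W₁ ≤ K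
  off : ∀ E ≤ T, Sq E → #|V| ≤ #|E| * #|V ⊓ 𝐂(E)| →
    E ≤ A ⊔ W₁ ∧ (E ≠ ⊥ → ∃ t ∈ T, t ⋆ A ≤ E)
  cW : T ⊓ 𝐂(V ⊓ 𝐂((A ⊔ W₁ : Subgroup G))) ≤ A ⊔ W₁
  nL : H ⊓ 𝐍(W₁) ≤ 𝐍(L)
  cA : W₁ = ⊥ → T ⊓ 𝐂(A) ≤ A

/-- an `SL₂(q)`-parabolic `X` with Sylow subgroup `S`, `Q = C_S(V)` -/
structure PH (X S Q V : Subgroup G) (q : ℕ) : Prop where
  QS : Q ≤ S
  SX : S ≤ X
  nQ : X ≤ 𝐍(Q)
  VQ : V ≤ Q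
  nV : X ≤ 𝐍(V)
  sq : Sq V
  cQ : Q ≤ 𝐂(V)
  two : IsPGroup 2 S
  zV : oz S ≤ V
  one_lt : 1 < q
  iQ : #|S| = q * #|Q|
  iV : #|V| = q * #|oz S|
  m1 : ∀ a ∈ S, a ∉ Q → V ⊓ 𝐂[a] ≤ oz S
  m2 : ∀ a ∈ S, a ∉ Q → ∀ v ∈ V, ⁅v, a⁆ ∈ 𝐂(X) → v ∈ oz S
  quad : ⁅V, S⁆ ≤ oz S
  opp : ∃ h ∈ X, S ⊔ h ⋆ S = X ∧ ∀ a ∈ S, a ∉ Q → h ⋆ S ⊔ (a * h) ⋆ S = X

/-- the pushing up problem in an ambient group -/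
structure Amb (P T M N : Subgroup G) : Prop extends MPi P T M where
  ch2 : P ⊓ 𝐂(core {2} P) ≤ core {2} P
  nT : N ≤ 𝐍(T)
  nc : ∀ U ≤ T, T ≤ 𝐍(U) → P ≤ 𝐍(U) → N ≤ 𝐍(U) → U = ⊥
  ser : Ser T P

/-- consequence of the solvability of the local subsystems -/
def NSP (T P₁ P₂ : Subgroup G) : Prop :=
  ∀ U ≤ T, U ≠ ⊥ → ∀ R : Set G, R.Nonempty → (1 : G) ∉ R →
    (∀ r ∈ R, r ∈ T ⊓ 𝐂(U) ∧ ∃ x ∈ P₁ ⊓ 𝐂(U), ∃ y ∈ P₂ ⊓ 𝐂(U),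
      x * r * x⁻¹ ∈ T ∧ y * r * y⁻¹ ∈ T ∧ ⁅x * r * x⁻¹, y * r * y⁻¹⁆ ∈ R) → False

/-- the holomorph -/
abbrev Hol (Q : Subgroup G) := Q ⋊[MonoidHom.id (MulAut Q)] MulAut Q

/-- `Q` inside its holomorph -/
def inV (Q : Subgroup G) : Subgroup (Hol Q) := (SemidirectProduct.inl : Q →* Hol Q).range

/-- a group of automorphisms inside the holomorph -/
def inA (Q : Subgroup G) (K : Subgroup (MulAut Q)) : Subgroup (Hol Q) :=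
  K.map SemidirectProduct.inr

/-- the automorphisms of `Q` induced by `N_K(Q)` -/
def act (Q K : Subgroup G) : Subgroup (Hol Q) :=
  inA Q ((K.subgroupOf 𝐍(Q)).map Q.normalizerMonoidHom)

/-- conclusion of the pushing up theorem: `Q = O₂(P)` is elementary abelian -/
structure TS (P T Q : Subgroup G) (n : G) (q : ℕ) (ℓ : Set (Subgroup (Hol Q)))
    (L : Subgroup (Hol Q)) : Prop where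
  ne : n ⋆ Q ≠ Q
  cen : T ⊓ 𝐂(Q) ≤ Q
  ea : ∀ A, MaxEA T A ↔ A = Q ∨ A = n ⋆ Q
  line : Line (inV Q) q ℓ L
  mem : act Q (n ⋆ Q) ∈ ℓ
  LP : L ≤ act Q P
  cA : ∀ c ∈ T, (∀ v ∈ n ⋆ Q, ⁅c, v⁆ ∈ Q) → c ∈ Q ⊔ n ⋆ Q

end

/-- slice QL -/
class QL : Prop where
  one : ∀ {G : Type u} [Group G] [Finite G] {V L M A : Subgroup G}, QH V L M A → ∃ q, QC V L A q
  two : ∀ {G : Type u} [Group G] [Finite G] {V L M A B : Subgroup G} {q : ℕ} {x : G}, QH V L M A →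
    Mem V q B → B ≤ A → ¬ B ≤ core {2} L → x ∈ L → x ∉ M →
    ∃ ℓ, Line V q ℓ (B ⊔ x ⋆ B) ∧ B ∈ ℓ ∧ x ⋆ B ∈ ℓ ∧ A ≤ B ⊔ core {2} L ∧
      ∀ g ∈ B ⊔ x ⋆ B, g ⋆ B = B ↔ g ∈ M

/-- slice LN -/
class LN : Prop where
  all : ∀ {G : Type u} [Group G] [Finite G] {V : Subgroup G} {q : ℕ} {𝒟 : Set (Subgroup G)}
    {Ω : Type u} (ω : Subgroup G → Ω), V.Normal → Sq V → (∀ D ∈ 𝒟, Mem V q D) →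
    (∀ D ∈ 𝒟, ∀ E ∈ 𝒟, ω D ≠ ω E → V ≤ V ⊓ 𝐂(D) ⊔ V ⊓ 𝐂(E)) →
    (∀ A ∈ 𝒟, ∀ a ∈ A, a ≠ 1 → ∀ D ∈ 𝒟, a ⋆ D ∈ 𝒟 ∧ (ω (a ⋆ D) = ω D → ω D = ω A)) →
    (∀ A ∈ 𝒟, ∃ ℓ L, Line V q ℓ L ∧ A ∈ ℓ ∧ ℓ ⊆ 𝒟 ∧ Set.InjOn ω ℓ) →
    (∀ D ∈ 𝒟, ∀ E ∈ 𝒟, ⁅V, D⁆ ≤ 𝐂(E) → ⁅V, E⁆ ≤ 𝐂(D) → D = E) →
    ∀ ℓ L, Line V q ℓ L → ℓ ⊆ 𝒟 → Set.InjOn ω ℓ → 𝒟 ⊆ ℓ
  rg : ∀ {G : Type u} [Group G] [Finite G] {V H T A L : Subgroup G} {q : ℕ} {ℓ : Set (Subgroup G)},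
    Md V H → IsSylowIn 2 T H → Ser T H → Line V q ℓ L → A ∈ ℓ → L ≤ H → A ≤ T → T ≤ 𝐍(A) →
    T ⊓ 𝐂(A) ≤ A → SCI H A ∧ ∀ g ∈ H, g ⋆ A ∈ ℓ

/-- slice PG -/
class PG : Prop where
  main : ∀ {G : Type u} [Group G] [Finite G] {V H T M : Subgroup G}, PGH V H T M →
    ∃ q A W₁ L ℓ, PGC V H T M q A W₁ L ℓ

/-- slice FD: coordinates on a line -/
class FD : Prop where
  main : ∀ {G : Type u} [Group G] [Finite G] {V A B L : Subgroup G} {q : ℕ} {ℓ : Set (Subgroup G)},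
    V.Normal → Sq V → Line V q ℓ L → A ∈ ℓ → B ∈ ℓ → A ≠ B →
    ∃ (F : Type) (_ : Field F) (_ : Fintype F) (_ : CharP F 2) (p r : G → F) (a b : F → G),
      Fintype.card F = q ∧
      (∀ v ∈ V, ∀ w ∈ V, p (v * w) = p v + p w ∧ r (v * w) = r v + r w) ∧
      (∀ x y, ∃ v ∈ V, p v = x ∧ r v = y) ∧ (∀ v ∈ V, p v = 0 ∧ r v = 0 ↔ v ∈ 𝐂(L)) ∧
      (∀ x y, a (x + y) = a x * a y ∧ b (x + y) = b x * b y) ∧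
      (∀ g, g ∈ A ↔ ∃ x, a x = g) ∧ (∀ g, g ∈ B ↔ ∃ x, b x = g) ∧
      (∀ x, ∀ v ∈ V, p (a x * v * (a x)⁻¹) = p v + x * r v ∧ r (a x * v * (a x)⁻¹) = r v ∧
        p (b x * v * (b x)⁻¹) = p v ∧ r (b x * v * (b x)⁻¹) = r v + x * p v)

/-- slice PU: the amalgam argument -/
class PU : Prop where
  main : ∀ {G : Type u} [Group G] [Finite G] {X S Q V N : Subgroup G} {q : ℕ}, PH X S Q V q →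
    N ≤ 𝐍(S) → (∀ U ≤ S, X ≤ 𝐍(U) → N ≤ 𝐍(U) → U = ⊥) → ∃ n ∈ N, ¬ n ⋆ V ≤ Q

/-- slice GT: Baumann argument and the structure of `T` -/
class GT : Prop where
  main : ∀ {G : Type u} [Group G] [Finite G] {P T M N : Subgroup G}, Amb P T M N → T ≤ N →
    (∀ n ∈ N, NSP T P (n ⋆ P)) → ∃ n ∈ N, ∃ q ℓ L, TS P T (core {2} P) n q ℓ L

end Cfsg.Agent.Pu
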